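import Cfsg.Agent.Lib.Lie.Chev.Nat.Cert
import Cfsg.Prelude.Def_Classical
import Cfsg.Prelude.Def_ChevB2
import Cfsg.Prelude.Def_ChevD4

/-!
# Natural representations of the covers of types B2 and D4

Machine-made tables, checked by the kernel.
-/

set_option autoImplicit false
set_option maxRecDepth 100000

namespace CfsgLib.Lie.NatRep

open Cfsg.Lie

/-- the coordinates of the plus form in dimension `2m` -/
abbrev IP (m : ℕ) : Type := Fin m ⊕ Fin m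

/-- the coordinates of the odd form in dimension `2m + 1` -/
abbrev IO (m : ℕ) : Type := Unit ⊕ (Fin m ⊕ Fin m)

/-- root entries, type D4 -/
def tabD4 (r : ℕ) : Ents (IP 4) := ([
  [(1, -1, .inr 0, .inl 1), (1, 1, .inr 1, .inl 0)],
  [(1, -1, .inr 0, .inl 2), (1, 1, .inr 2, .inl 0)],
  [(1, 1, .inl 3, .inl 0), (1, -1, .inr 0, .inr 3)],
  [(1, -1, .inr 0, .inl 3), (1, 1, .inr 3, .inl 0)],
  [(1, -1, .inl 2, .inl 0), (1, 1, .inr 0, .inr 2)],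
  [(1, 1, .inl 1, .inl 0), (1, -1, .inr 0, .inr 1)],
  [(1, 1, .inr 1, .inl 2), (1, -1, .inr 2, .inl 1)],
  [(1, -1, .inl 3, .inl 1), (1, 1, .inr 1, .inr 3)],
  [(1, 1, .inr 1, .inl 3), (1, -1, .inr 3, .inl 1)],
  [(1, 1, .inl 2, .inl 1), (1, -1, .inr 1, .inr 2)],
  [(1, 1, .inl 3, .inl 2), (1, -1, .inr 2, .inr 3)],
  [(1, -1, .inr 2, .inl 3), (1, 1, .inr 3, .inl 2)],
  [(1, 1, .inl 2, .inr 3), (1, -1, .inl 3, .inr 2)],
  [(1, 1, .inl 2, .inl 3), (1, -1, .inr 3, .inr 2)],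
  [(1, 1, .inl 1, .inl 2), (1, -1, .inr 2, .inr 1)],
  [(1, -1, .inl 1, .inr 3), (1, 1, .inl 3, .inr 1)],
  [(1, -1, .inl 1, .inl 3), (1, 1, .inr 3, .inr 1)],
  [(1, -1, .inl 1, .inr 2), (1, 1, .inl 2, .inr 1)],
  [(1, 1, .inl 0, .inl 1), (1, -1, .inr 1, .inr 0)],
  [(1, -1, .inl 0, .inl 2), (1, 1, .inr 2, .inr 0)],
  [(1, 1, .inl 0, .inr 3), (1, -1, .inl 3, .inr 0)],
  [(1, 1, .inl 0, .inl 3), (1, -1, .inr 3, .inr 0)],
  [(1, 1, .inl 0, .inr 2), (1, -1, .inl 2, .inr 0)],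
  [(1, 1, .inl 0, .inr 1), (1, -1, .inl 1, .inr 0)]] : List (Ents (IP 4))).getD r []

/-- root entries, type B2 -/
def tabB2 (r : ℕ) : Ents (IO 2) := ([
  [(1, -1, .inr (.inr 0), .inr (.inl 1)), (1, 1, .inr (.inr 1), .inr (.inl 0))],
  [(1, 2, .inr (.inr 0), .inl ()), (1, -1, .inl (), .inr (.inl 0)), (2, -1, .inr (.inr 0), .inr (.inl 0))],
  [(1, 2, .inr (.inr 1), .inl ()), (1, -1, .inl (), .inr (.inl 1)), (2, -1, .inr (.inr 1), .inr (.inl 1))],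
  [(1, 1, .inr (.inl 1), .inr (.inl 0)), (1, -1, .inr (.inr 0), .inr (.inr 1))],
  [(1, 1, .inr (.inl 0), .inr (.inl 1)), (1, -1, .inr (.inr 1), .inr (.inr 0))],
  [(1, -2, .inr (.inl 1), .inl ()), (1, 1, .inl (), .inr (.inr 1)), (2, -1, .inr (.inl 1), .inr (.inr 1))],
  [(1, -2, .inr (.inl 0), .inl ()), (1, 1, .inl (), .inr (.inr 0)), (2, -1, .inr (.inl 0), .inr (.inr 0))],
  [(1, 1, .inr (.inl 0), .inr (.inr 1)), (1, -1, .inr (.inl 1), .inr (.inr 0))]] : List (Ents (IO 2))).getD r []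

theorem chk_B2 : chkNat chevB2 tabB2 = true := by decide +kernel

theorem chk_D4 : chkNat chevD4 tabD4 = true := by decide +kernel

end CfsgLib.Lie.NatRep
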