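import Cfsg.Agent.Lib.Lie.Chev.Nat.Resid
import Cfsg.Agent.Lib.Lie.Chev.Nat.Tables
import Cfsg.Agent.Lib.Lie.Chev.CoverTorus
import Cfsg.Agent.Lib.Lie.Chev.CoverPerfect
import Cfsg.Agent.Lib.Lie.Chev.PerfectData

/-!
# `B₂(K) ≅ PΩ₅(K)` and `D₄(K) ≅ PΩ₈⁺(K)`
-/

set_option autoImplicit false
set_option maxHeartbeats 1000000

namespace CfsgLib.Lie.NatRep

open Cfsg.Lie CfsgLib.Lie.Chev
open scoped Matrix commutatorElement

theorem quot_iso {St S W : Type*} [Group St] [Group S] [Group W] (hperf : commutator St = ⊤)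
    (θ : St →* S) (hθ : Function.Surjective θ) (hker : θ.ker ≤ Subgroup.center St)
    (hsim : IsSimpleGroup S) (hna : ¬ IsMulCommutative S) (ρ : St →* W) (hρ : Function.Surjective ρ)
    (hW : ∃ w : W, w ≠ 1) : Nonempty (S ≃* W ⧸ Subgroup.center W) := by
  have hnorm : (ρ.ker.map θ).Normal := Subgroup.Normal.map inferInstance θ hθ
  have hle : ρ.ker ≤ θ.ker := by
    rcases hsim.eq_bot_or_eq_top_of_normal _ hnorm with h | h
    · exact fun x hx => (MonoidHom.mem_ker).2 (Subgroup.mem_bot.1 (h ▸ Subgroup.mem_map_of_mem θ hx))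
    exfalso
    obtain ⟨w, hw⟩ := hW
    have hcomm : ∀ x : St, ρ x ∈ Subgroup.center W := by
      intro x
      obtain ⟨k, hk, e⟩ := (h.symm ▸ Subgroup.mem_top (θ x) : θ x ∈ ρ.ker.map θ)
      have hz : k⁻¹ * x ∈ Subgroup.center St := hker (by
        rw [MonoidHom.mem_ker, map_mul, map_inv, e, inv_mul_cancel])
      have e2 : ρ x = ρ (k⁻¹ * x) := by rw [map_mul, map_inv, MonoidHom.mem_ker.1 hk, inv_one, one_mul]
      rw [e2, Subgroup.mem_center_iff]
      intro g
      obtain ⟨y, rfl⟩ := hρ g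
      rw [← map_mul, ← map_mul, Subgroup.mem_center_iff.1 hz y]
    have : commutator St ≤ ρ.ker := by
      rw [commutator_def, Subgroup.commutator_le]
      intro a _ b _
      rw [MonoidHom.mem_ker, map_commutatorElement, commutatorElement_eq_one_iff_mul_comm]
      exact Subgroup.mem_center_iff.1 (hcomm b) (ρ a)
    rw [hperf] at this
    obtain ⟨y, rfl⟩ := hρ w
    exact hw (MonoidHom.mem_ker.1 (this (Subgroup.mem_top y)))
  let ψ : St →* W ⧸ Subgroup.center W := (QuotientGroup.mk' _).comp ρ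
  have hψ : Function.Surjective ψ := (QuotientGroup.mk'_surjective _).comp hρ
  have hk : θ.ker = ψ.ker := by
    ext x
    rw [MonoidHom.mem_ker (f := ψ), MonoidHom.comp_apply, QuotientGroup.mk'_apply,
      QuotientGroup.eq_one_iff]
    constructor
    · intro hx
      rw [Subgroup.mem_center_iff]
      intro g
      obtain ⟨y, rfl⟩ := hρ g
      rw [← map_mul, ← map_mul, Subgroup.mem_center_iff.1 (hker hx) y]
    · intro hx
      rw [MonoidHom.mem_ker]
      have hc : θ x ∈ Subgroup.center S := by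
        rw [Subgroup.mem_center_iff]
        intro g
        obtain ⟨y, rfl⟩ := hθ g
        have : ⁅y, x⁆ ∈ ρ.ker := by
          rw [MonoidHom.mem_ker, map_commutatorElement, commutatorElement_eq_one_iff_mul_comm]
          exact Subgroup.mem_center_iff.1 hx _
        have := MonoidHom.mem_ker.1 (hle this)
        rwa [map_commutatorElement, commutatorElement_eq_one_iff_mul_comm] at this
      rcases hsim.eq_bot_or_eq_top_of_normal (Subgroup.center S) inferInstance with h | h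
      · exact Subgroup.mem_bot.1 (h ▸ hc)
      · exact absurd (⟨⟨fun a b => Subgroup.mem_center_iff.1 (h ▸ Subgroup.mem_top b) a⟩⟩ :
          IsMulCommutative S) hna
  exact ⟨((QuotientGroup.quotientKerEquivOfSurjective θ hθ).symm.trans
    (QuotientGroup.quotientMulEquivOfEq hk)).trans (QuotientGroup.quotientKerEquivOfSurjective ψ hψ)⟩

section Main

variable {D : ChevalleyDatum} {ι : Type} [Fintype ι] [DecidableEq ι] {m : ℕ} (H : Hyp ι m)
  (T : ℕ → Ents ι)

/-- the table lists exactly the root elements of the form, up to sign -/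
def Match : Prop :=
  (∀ L, H.IsRoot L → ∃ r : Fin D.nroots,
    wordsEq [(L, 1, 1, 0)] [(T r.val, 1, 1, 0)] = true ∨
      wordsEq [(L, 1, 1, 0)] [(T r.val, -1, 1, 0)] = true) ∧
  ∀ r : Fin D.nroots, ∃ L, H.IsRoot L ∧
    (wordsEq [(T r.val, 1, 1, 0)] [(L, 1, 1, 0)] = true ∨
      wordsEq [(T r.val, 1, 1, 0)] [(L, -1, 1, 0)] = true)

theorem nxL_of_match {K : Type*} [Field K] {L L' : Ents ι}
    (h : wordsEq [(L, 1, 1, 0)] [(L', 1, 1, 0)] = true ∨ wordsEq [(L, 1, 1, 0)] [(L', -1, 1, 0)] = true)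
    (t : K) : ∃ t', nxL L t = nxL L' t' := by
  rcases h with h | h
  · exact ⟨t, by simpa [wordL] using word_eq h t (0 : K)⟩
  · exact ⟨-t, by simpa [wordL] using word_eq h t (0 : K)⟩

variable {H T}

theorem main_iso {K : Type*} [Field K] (C : Full D) (hchk : chkNat D T = true)
    (hmatch : Match (D := D) H T) (hP : ∀ i, C.HasPair i)
    (hperf : commutator (D.SteinbergCover K) = ⊤)
    (hsim : IsSimpleGroup ↥(D.group K) ∧ ¬ IsMulCommutative ↥(D.group K)) (hm : 2 ≤ m) :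
    Nonempty (↥(D.group K) ≃* Cfsg.POmega K (H.Q K)) := by
  obtain ⟨hm1, hm2⟩ := hmatch
  have hroot : ∀ L, H.IsRoot L → ∀ t : K, ∃ r, ∃ t', nxL L t = nxL (T r) t' ∧ r < D.nroots := by
    intro L hL t
    obtain ⟨r, hr⟩ := hm1 L hL
    obtain ⟨t', ht⟩ := nxL_of_match hr t
    exact ⟨r.val, t', ht, r.isLt⟩
  have hU : ∀ L, H.IsRoot L → ∀ t : K, IsUnit (nxL L t) := by
    intro L hL t
    obtain ⟨r, t', ht, hr⟩ := hroot L hL t
    rw [ht, ← nU_val hchk ⟨r, hr⟩]
    exact Units.isUnit _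
  let ρ0 := natHom (K := K) hchk
  have hrange : ρ0.range = H.E K := by
    rw [MonoidHom.range_eq_map, ← PresentedGroup.closure_range_of, MonoidHom.map_closure]
    refine le_antisymm ((Subgroup.closure_le _).2 ?_) ((Subgroup.closure_le _).2 ?_)
    · rintro _ ⟨_, ⟨⟨r, t⟩, rfl⟩, rfl⟩
      obtain ⟨L, hL, hr⟩ := hm2 r
      obtain ⟨t', ht⟩ := nxL_of_match hr t
      exact Subgroup.subset_closure ⟨L, t', hL, (natHom_of hchk r t).trans ht⟩
    · rintro g ⟨L, t, hL, hg⟩
      obtain ⟨r, t', ht, hr⟩ := hroot L hL t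
      refine Subgroup.subset_closure ⟨_, ⟨(⟨r, hr⟩, t'), rfl⟩, Units.ext ?_⟩
      rw [natHom_of, hg, ht]
  have hE : (Cfsg.Omega K (H.Q K)).map (Cfsg.isometryGroup K (H.Q K)).subtype = H.E K := by
    refine le_antisymm (H.commutator_le hU hm) ?_
    have h1 : H.E K ≤ ⁅H.E K, H.E K⁆ := by
      conv_lhs => rw [← hrange, MonoidHom.range_eq_map, ← hperf, commutator_def, Subgroup.map_commutator,
        ← MonoidHom.range_eq_map, hrange]
    refine h1.trans ?_
    show ⁅H.E K, H.E K⁆ ≤ (commutator ↥(Cfsg.isometryGroup K (H.Q K))).map _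
    rw [commutator_def, Subgroup.map_commutator, ← MonoidHom.range_eq_map, Subgroup.range_subtype]
    exact Subgroup.commutator_mono H.E_le H.E_le
  have hmem : ∀ x, ρ0 x ∈ (Cfsg.Omega K (H.Q K)).map (Cfsg.isometryGroup K (H.Q K)).subtype := by
    intro x
    rw [hE, ← hrange]
    exact ⟨x, rfl⟩
  let e := (Cfsg.Omega K (H.Q K)).equivMapOfInjective _ (Cfsg.isometryGroup K (H.Q K)).subtype_injective
  let ρ : D.SteinbergCover K →* ↥(Cfsg.Omega K (H.Q K)) :=
    e.symm.toMonoidHom.comp (ρ0.codRestrict _ hmem)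
  have hρ : Function.Surjective ρ := by
    refine e.symm.surjective.comp ?_
    rintro ⟨g, hg⟩
    rw [hE, ← hrange] at hg
    obtain ⟨x, hx⟩ := hg
    exact ⟨x, Subtype.ext hx⟩
  let θ : D.SteinbergCover K →* ↥(D.group K) := (C.theta (K := K)).codRestrict (D.group K) fun x => by
    rw [← C.theta_range (K := K)]; exact ⟨x, rfl⟩
  have hθ : Function.Surjective θ := by
    rintro ⟨g, hg⟩
    rw [← C.theta_range (K := K)] at hg
    obtain ⟨x, hx⟩ := hg
    exact ⟨x, Subtype.ext hx⟩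
  have hker : θ.ker ≤ Subgroup.center _ := fun x hx =>
    C.theta_ker_central hP (show x ∈ (C.theta (K := K)).ker from
      MonoidHom.mem_ker.2 (congrArg Subtype.val (MonoidHom.mem_ker.1 hx)))
  refine quot_iso hperf θ hθ hker hsim.1 hsim.2 ρ hρ ?_
  -- a root element is not the identity
  obtain ⟨p, q, h1, h2⟩ : ∃ p q : Fin m × Bool, q ≠ p ∧ q ≠ bar p :=
    ⟨(⟨0, by omega⟩, true), (⟨1, by omega⟩, true), by simp, by simp [bar]⟩
  have hL : H.IsRoot (H.entT p q) := Or.inl ⟨p, q, h1, h2, rfl⟩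
  have hmemE : (hU _ hL 1).unit ∈ H.E K := H.root_mem hL 1 _
  rw [← hE] at hmemE
  obtain ⟨w, hw, hwe⟩ := hmemE
  refine ⟨⟨w, hw⟩, fun e0 => ?_⟩
  have e1 : (hU _ hL 1).unit = 1 := by
    rw [← hwe, show w = 1 from congrArg Subtype.val e0, map_one]
  have e2 := congrFun (congrArg (fun g : Matrix.GeneralLinearGroup ι K =>
    (g : Matrix ι ι K).mulVec (Pi.single (H.c q) 1)) e1) (H.c p)
  simp only [IsUnit.unit_spec, H.T_mulVec, Units.val_one, Matrix.one_mulVec, Pi.add_apply,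
    Pi.single_eq_same, mul_one, Pi.single_eq_of_ne (H.c_ne (Ne.symm h1)),
    Pi.single_eq_of_ne (H.c_ne (show bar p ≠ q from fun e => h2 e.symm)), mul_zero, neg_zero,
    Pi.single_zero, Pi.zero_apply, add_zero, zero_add] at e2
  exact one_ne_zero e2

end Main

/-- the coordinates of `z² + x₀y₀ + x₁y₁` -/
def hypB2 : Hyp (IO 2) 2 where
  c p := cond p.2 (.inr (.inl p.1)) (.inr (.inr p.1))
  z := some (.inl ())
  inj := by decide +kernel
  notc := by decide +kernel
  cover := by decide +kernel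

/-- the coordinates of `∑ xᵢyᵢ` -/
def hypD4 : Hyp (IP 4) 4 where
  c p := cond p.2 (.inl p.1) (.inr p.1)
  z := none
  inj := by decide +kernel
  notc := by decide +kernel
  cover := by decide +kernel

theorem match_B2 : Match (D := chevB2) hypB2 tabB2 := by
  have hT : ∀ p q : Fin 2 × Bool, q ≠ p → q ≠ bar p → ∃ r : Fin chevB2.nroots,
      wordsEq [(hypB2.entT p q, 1, 1, 0)] [(tabB2 r.val, 1, 1, 0)] = true ∨
        wordsEq [(hypB2.entT p q, 1, 1, 0)] [(tabB2 r.val, -1, 1, 0)] = true := by decide +kernel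
  have hS : ∀ p : Fin 2 × Bool, ∃ r : Fin chevB2.nroots,
      wordsEq [(hypB2.entS (.inl ()) p, 1, 1, 0)] [(tabB2 r.val, 1, 1, 0)] = true ∨
        wordsEq [(hypB2.entS (.inl ()) p, 1, 1, 0)] [(tabB2 r.val, -1, 1, 0)] = true := by decide +kernel
  have hback : ∀ r : Fin chevB2.nroots,
      (∃ p q : Fin 2 × Bool, q ≠ p ∧ q ≠ bar p ∧
        (wordsEq [(tabB2 r.val, 1, 1, 0)] [(hypB2.entT p q, 1, 1, 0)] = true ∨
          wordsEq [(tabB2 r.val, 1, 1, 0)] [(hypB2.entT p q, -1, 1, 0)] = true)) ∨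
      ∃ p : Fin 2 × Bool,
        wordsEq [(tabB2 r.val, 1, 1, 0)] [(hypB2.entS (.inl ()) p, 1, 1, 0)] = true ∨
          wordsEq [(tabB2 r.val, 1, 1, 0)] [(hypB2.entS (.inl ()) p, -1, 1, 0)] = true := by
    decide +kernel
  constructor
  · rintro L (⟨p, q, h1, h2, rfl⟩ | ⟨k, p, hk, rfl⟩)
    · exact hT p q h1 h2
    · obtain rfl : Sum.inl () = k := Option.some_injective _ hk
      exact hS p
  · intro r
    rcases hback r with ⟨p, q, h1, h2, h⟩ | ⟨p, h⟩
    · exact ⟨_, Or.inl ⟨p, q, h1, h2, rfl⟩, h⟩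
    · exact ⟨_, Or.inr ⟨_, p, rfl, rfl⟩, h⟩

theorem match_D4 : Match (D := chevD4) hypD4 tabD4 := by
  have hT : ∀ p q : Fin 4 × Bool, q ≠ p → q ≠ bar p → ∃ r : Fin chevD4.nroots,
      wordsEq [(hypD4.entT p q, 1, 1, 0)] [(tabD4 r.val, 1, 1, 0)] = true ∨
        wordsEq [(hypD4.entT p q, 1, 1, 0)] [(tabD4 r.val, -1, 1, 0)] = true := by decide +kernel
  have hback : ∀ r : Fin chevD4.nroots, ∃ p q : Fin 4 × Bool, q ≠ p ∧ q ≠ bar p ∧
      (wordsEq [(tabD4 r.val, 1, 1, 0)] [(hypD4.entT p q, 1, 1, 0)] = true ∨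
        wordsEq [(tabD4 r.val, 1, 1, 0)] [(hypD4.entT p q, -1, 1, 0)] = true) := by decide +kernel
  constructor
  · rintro L (⟨p, q, h1, h2, rfl⟩ | ⟨k, p, hk, rfl⟩)
    · exact hT p q h1 h2
    · exact absurd hk (by simp [hypD4])
  · intro r
    obtain ⟨p, q, h1, h2, h⟩ := hback r
    exact ⟨_, Or.inl ⟨p, q, h1, h2, rfl⟩, h⟩

theorem d4_iso (K : Type*) [Field K] :
    Nonempty (↥(chevD4.group K) ≃* Cfsg.POmega K (Cfsg.quadFormPlus 4 K)) := by
  have hD : chevD4 ∈ [chevG2, chevB2, chevD4, chevF4, chevE6, chevE7, chevE8] := by simp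
  have hQ : hypD4.Q K = Cfsg.quadFormPlus 4 K := by
    funext v
    simp [Hyp.Q, Cfsg.quadFormPlus, hypD4]
  have C := fullOf hD
  rw [← hQ]
  have hperf : commutator (chevD4.SteinbergCover K) = ⊤ := by
    refine CoverPerfect.cover_perfect chevD4 hD fun h => ?_
    simp only [List.mem_cons, List.not_mem_nil, or_false] at h
    rcases h with h | h <;>
      exact absurd (congrArg ChevalleyDatum.nroots h) (by decide +kernel)
  exact main_iso (H := hypD4) C chk_D4 match_D4 (hasPair_tab hD C) hperf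
    (C.isSimpleGroup connectedD4 (C.G.commutator_eq_top (inDerD4 C)) ⟨0, by decide +kernel⟩) (by norm_num)

theorem b2_iso (K : Type*) [Field K] (hK : ∃ a : K, a ≠ 0 ∧ a ≠ 1) :
    Nonempty (↥(chevB2.group K) ≃* Cfsg.POmega K (Cfsg.quadFormOdd 2 K)) := by
  have hD : chevB2 ∈ [chevG2, chevB2, chevD4, chevF4, chevE6, chevE7, chevE8] := by simp
  have hQ : hypB2.Q K = Cfsg.quadFormOdd 2 K := by
    funext v
    simp [Hyp.Q, Cfsg.quadFormOdd, hypB2]
  have C := fullOf hD
  rw [← hQ]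
  exact main_iso (H := hypB2) C chk_B2 match_B2 (hasPair_tab hD C)
    (CoverPerfect.cover_perfect chevB2 hD fun _ => hK)
    (C.isSimpleGroup connectedB2 (C.G.commutator_eq_top (inDerB2 C hK)) ⟨0, by decide +kernel⟩) le_rfl

end CfsgLib.Lie.NatRep
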