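import Cfsg.Agent.Lib.Lie.Chev.Cover

/-!
# Matrix representations of a Steinberg cover from a table of sparse root matrices

A table lists for every root the entries `(d, c, row, col)` of the matrix `1 + ∑ c tᵈ E_{row,col}`.
Identities between words in such matrices are multiplied out on the unit vectors, over the integers.
-/

set_option autoImplicit false
set_option maxHeartbeats 1000000

namespace CfsgLib.Lie.NatRep

open Cfsg.Lie

variable {ι : Type} [Fintype ι] [DecidableEq ι] {R : Type*} [CommRing R]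

/-- entries `(d, c, row, col)` -/
abbrev Ents (ι : Type) := List (ℕ × ℤ × ι × ι)

/-- the matrix `1 + ∑ c tᵈ E_{row,col}` -/
def nxL (L : Ents ι) (t : R) : Matrix ι ι R :=
  1 + (L.map fun e => Matrix.single e.2.2.1 e.2.2.2 ((e.2.1 : R) * t ^ e.1)).sum

/-- a sparse vector of polynomials in two variables -/
abbrev PV (ι : Type) := List ((ι × ℕ × ℕ) × ℤ)

/-- the value of a sparse vector -/
def ev (t u : R) (v : PV ι) : ι → R :=
  (v.map fun e => Pi.single e.1.1 ((e.2 : R) * t ^ e.1.2.1 * u ^ e.1.2.2)).sum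

/-- the matrix with parameter `c tᵃ uᵇ` applied to a sparse vector -/
def stepL (L : Ents ι) (c : ℤ) (a b : ℕ) (v : PV ι) : PV ι :=
  v.flatMap fun e => e :: (L.filter fun x => decide (x.2.2.2 = e.1.1)).map fun x =>
    ((x.2.2.1, e.1.2.1 + x.1 * a, e.1.2.2 + x.1 * b), c ^ x.1 * x.2.1 * e.2)

/-- a word, each letter with its parameter `c tᵃ uᵇ` -/
abbrev PW (ι : Type) := List (Ents ι × ℤ × ℕ × ℕ)

/-- the matrix of a word -/
def wordL (t u : R) (w : PW ι) : Matrix ι ι R :=
  (w.map fun x => nxL x.1 ((x.2.1 : R) * t ^ x.2.2.1 * u ^ x.2.2.2)).prod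

/-- a word applied to a unit vector -/
def runL (w : PW ι) (j : ι) : PV ι :=
  w.foldr (fun x v => stepL x.1 x.2.1 x.2.2.1 x.2.2.2 v) [((j, 0, 0), 1)]

/-- coefficient -/
def coefV (v : PV ι) (p : ι × ℕ × ℕ) : ℤ := (v.map fun e => if e.1 = p then e.2 else 0).sum

/-- equality of sparse vectors -/
def eqV (v w : PV ι) : Bool := (v ++ w).all fun e => decide (coefV v e.1 = coefV w e.1)

theorem ev_cons (t u : R) (e : (ι × ℕ × ℕ) × ℤ) (v : PV ι) :
    ev t u (e :: v) = Pi.single e.1.1 ((e.2 : R) * t ^ e.1.2.1 * u ^ e.1.2.2) + ev t u v := by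
  simp [ev]

theorem ev_append (t u : R) (v w : PV ι) : ev t u (v ++ w) = ev t u v + ev t u w := by
  simp [ev]

theorem ev_eq_sum (t u : R) (S : Finset (ι × ℕ × ℕ)) : ∀ (v : PV ι), (∀ e ∈ v, e.1 ∈ S) →
    ev t u v = ∑ p ∈ S, (Pi.single p.1 ((coefV v p : R) * t ^ p.2.1 * u ^ p.2.2) : ι → R) := by
  intro v
  induction v with
  | nil => intro _; simp [ev, coefV]
  | cons e v ih =>
    intro h
    rw [ev_cons, ih fun x hx => h x (List.mem_cons_of_mem _ hx)]
    have he : (Pi.single e.1.1 ((e.2 : R) * t ^ e.1.2.1 * u ^ e.1.2.2) : ι → R) =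
        ∑ p ∈ S, if e.1 = p then (Pi.single p.1 ((e.2 : R) * t ^ p.2.1 * u ^ p.2.2) : ι → R) else 0 := by
      rw [Finset.sum_ite_eq, if_pos (h e List.mem_cons_self)]
    rw [he, ← Finset.sum_add_distrib]
    refine Finset.sum_congr rfl fun p _ => ?_
    simp only [coefV, List.map_cons, List.sum_cons]
    split_ifs with hp
    · subst hp
      rw [← Pi.single_add]
      congr 1
      push_cast
      ring
    · simp

theorem eqV_spec {v w : PV ι} (h : eqV v w = true) (t u : R) : ev t u v = ev t u w := by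
  set S := ((v ++ w).map Prod.fst).toFinset
  rw [ev_eq_sum t u S v (fun e he =>
      List.mem_toFinset.2 (List.mem_map.2 ⟨e, List.mem_append_left _ he, rfl⟩)),
    ev_eq_sum t u S w (fun e he =>
      List.mem_toFinset.2 (List.mem_map.2 ⟨e, List.mem_append_right _ he, rfl⟩))]
  refine Finset.sum_congr rfl fun p hp => ?_
  obtain ⟨e, he, rfl⟩ := List.mem_map.1 (List.mem_toFinset.1 hp)
  rw [eqV, List.all_eq_true] at h
  rw [of_decide_eq_true (h e he)]

theorem nxL_mulVec (L : Ents ι) (s : R) (x : ι → R) :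
    (nxL L s).mulVec x =
      x + (L.map fun e => Pi.single e.2.2.1 ((e.2.1 : R) * s ^ e.1 * x e.2.2.2)).sum := by
  rw [nxL, Matrix.add_mulVec, Matrix.one_mulVec]
  congr 1
  induction L with
  | nil => simp
  | cons e L ih =>
    simp only [List.map_cons, List.sum_cons, Matrix.add_mulVec, ih]
    congr 1
    exact Matrix.single_mulVec _ _ _ _

theorem ev_step (L : Ents ι) (c : ℤ) (a b : ℕ) (t u : R) : ∀ v : PV ι,
    ev t u (stepL L c a b v) = (nxL L ((c : R) * t ^ a * u ^ b)).mulVec (ev t u v) := by
  intro v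
  induction v with
  | nil => simp [stepL, ev]
  | cons e v ih =>
    rw [stepL, List.flatMap_cons, ev_append, ← stepL, ih, ev_cons, ev_cons, Matrix.mulVec_add]
    congr 1
    rw [nxL_mulVec]
    congr 1
    clear ih
    induction L with
    | nil => simp [ev]
    | cons x L ihL =>
      rw [List.map_cons, List.sum_cons, ← ihL]
      by_cases hx : x.2.2.2 = e.1.1
      · rw [List.filter_cons_of_pos (by simpa using hx), List.map_cons, ev_cons]
        congr 1
        congr 1
        rw [hx, Pi.single_eq_same]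
        push_cast
        ring
      · rw [List.filter_cons_of_neg (by simpa using hx), Pi.single_eq_of_ne hx, mul_zero,
          Pi.single_zero, zero_add]

theorem wordL_nil (t u : R) : wordL t u ([] : PW ι) = 1 := rfl

theorem wordL_cons (t u : R) (x : Ents ι × ℤ × ℕ × ℕ) (w : PW ι) :
    wordL t u (x :: w) = nxL x.1 ((x.2.1 : R) * t ^ x.2.2.1 * u ^ x.2.2.2) * wordL t u w := by
  simp [wordL]

theorem ev_run (t u : R) (j : ι) : ∀ w : PW ι,
    ev t u (runL w j) = (wordL t u w).mulVec (Pi.single j 1) := by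
  intro w
  induction w with
  | nil =>
    rw [wordL_nil, Matrix.one_mulVec]
    simp [runL, ev]
  | cons x w ih =>
    rw [wordL_cons, ← Matrix.mulVec_mulVec, ← ih, ← ev_step]
    rfl

/-- equality of two words, checked on the unit vectors -/
def wordsEq (w w' : PW ι) : Bool := decide (∀ j : ι, eqV (runL w j) (runL w' j) = true)

theorem word_eq {w w' : PW ι} (h : wordsEq w w' = true) (t u : R) : wordL t u w = wordL t u w' := by
  refine Matrix.ext_of_mulVec_single fun j => ?_
  rw [← ev_run, ← ev_run]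
  exact eqV_spec (of_decide_eq_true h j) t u

/-- the entries of the parameter sum `x(t + u)` on a unit vector -/
def sumCol (L : Ents ι) (j : ι) : PV ι :=
  ((j, 0, 0), 1) :: (L.filter fun x => decide (x.2.2.2 = j)).flatMap fun x =>
    (List.range (x.1 + 1)).map fun k =>
      ((x.2.2.1, k, x.1 - k), (Nat.choose x.1 k : ℤ) * x.2.1)

theorem ev_sumCol (L : Ents ι) (j : ι) (t u : R) :
    ev t u (sumCol L j) = (nxL L (t + u)).mulVec (Pi.single j 1) := by
  rw [sumCol, ev_cons, nxL_mulVec]
  congr 1
  · simp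
  induction L with
  | nil => simp [ev]
  | cons x L ihL =>
    rw [List.map_cons, List.sum_cons, ← ihL]
    by_cases hx : x.2.2.2 = j
    · rw [List.filter_cons_of_pos (by simpa using hx), List.flatMap_cons, ev_append]
      congr 1
      subst hx
      rw [Pi.single_eq_same, mul_one, add_pow]
      generalize x.1 = d
      have e : ∀ (f : ℕ → (ι × ℕ × ℕ) × ℤ) (n : ℕ), ev t u ((List.range n).map f) =
          ∑ k ∈ Finset.range n,
            Pi.single (f k).1.1 (((f k).2 : R) * t ^ (f k).1.2.1 * u ^ (f k).1.2.2) := by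
        intro f n
        induction n with
        | zero => simp [ev]
        | succ n ihn => rw [List.range_succ, List.map_append, ev_append, ihn, Finset.sum_range_succ]; simp [ev]
      rw [e, Finset.mul_sum]
      have hs : ∀ g : ℕ → R, (Pi.single x.2.2.1 (∑ k ∈ Finset.range (d + 1), g k) : ι → R) =
          ∑ k ∈ Finset.range (d + 1), Pi.single x.2.2.1 (g k) := fun g =>
        map_sum (AddMonoidHom.single (fun _ : ι => R) x.2.2.1) g _
      rw [hs]
      refine Finset.sum_congr rfl fun k _ => ?_
      congr 1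
      push_cast
      ring
    · rw [List.filter_cons_of_neg (by simpa using hx), Pi.single_eq_of_ne hx, mul_zero,
        Pi.single_zero, zero_add]

/-- the table satisfies the relators of the cover -/
def chkNat (D : ChevalleyDatum) (T : ℕ → Ents ι) : Bool :=
  decide ((∀ r : Fin D.nroots,
      (∀ j : ι, eqV (runL [(T r.val, 1, 1, 0), (T r.val, 1, 0, 1)] j) (sumCol (T r.val) j) = true) ∧
      (T r.val).all (fun e => decide (e.1 ≠ 0)) = true) ∧
    ∀ r s : Fin D.nroots, s.val ≠ r.val → s.val ≠ D.neg r.val →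
      (∀ c ∈ D.commTerms r.val s.val, c.1 < D.nroots) ∧
      wordsEq [(T s.val, 1, 0, 1), (T r.val, 1, 1, 0)]
        ((T r.val, 1, 1, 0) :: (T s.val, 1, 0, 1) ::
          (D.commTerms r.val s.val).map fun c => (T c.1, (-1) ^ c.2.2.1 * c.2.1, c.2.2.1, c.2.2.2)) = true)

section Hom

variable {D : ChevalleyDatum} {T : ℕ → Ents ι} {K : Type*} [Field K] (h : chkNat D T = true)
include h

theorem nxL_add (r : Fin D.nroots) (t u : K) :
    nxL (T r.val) (t + u) = nxL (T r.val) t * nxL (T r.val) u := by
  refine Matrix.ext_of_mulVec_single fun j => ?_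
  have h1 := ((of_decide_eq_true h).1 r).1 j
  have h2 := eqV_spec h1 t u
  rw [ev_run, ev_sumCol] at h2
  rw [← h2]
  simp [wordL]

theorem nxL_zero (r : Fin D.nroots) : nxL (T r.val) (0 : K) = 1 := by
  have h1 := ((of_decide_eq_true h).1 r).2
  rw [List.all_eq_true] at h1
  rw [nxL, add_eq_left]
  refine List.sum_eq_zero fun x hx => ?_
  obtain ⟨e, he, rfl⟩ := List.mem_map.1 hx
  rw [zero_pow (of_decide_eq_true (h1 e he)), mul_zero, Matrix.single_zero]

/-- the matrix of a root element as a unit -/
def nU (r : Fin D.nroots) (t : K) : Matrix.GeneralLinearGroup ι K :=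
  ⟨nxL (T r.val) t, nxL (T r.val) (-t), by rw [← nxL_add h, add_neg_cancel, nxL_zero h],
    by rw [← nxL_add h, neg_add_cancel, nxL_zero h]⟩

omit h in
/-- the value of a generator -/
theorem nU_val (h : chkNat D T = true) (r : Fin D.nroots) (t : K) :
    ((nU h r t : Matrix.GeneralLinearGroup ι K) : Matrix ι ι K) = nxL (T r.val) t := rfl

/-- the representation of the cover -/
noncomputable def natHom : D.SteinbergCover K →* Matrix.GeneralLinearGroup ι K :=
  PresentedGroup.toGroup (f := fun p : Fin D.nroots × K => nU h p.1 p.2) (by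
    have hw : ∀ l : List (ℕ × ℤ × ℕ × ℕ), (∀ c ∈ l, c.1 < D.nroots) → ∀ t u : K,
        ((FreeGroup.lift fun p : Fin D.nroots × K => nU h p.1 p.2)
            (D.stWord (l.map fun c => (c.1, (c.2.1 : K) * (-t) ^ c.2.2.1 * u ^ c.2.2.2))) :
              Matrix.GeneralLinearGroup ι K).val =
          wordL t u (l.map fun c => (T c.1, (-1) ^ c.2.2.1 * c.2.1, c.2.2.1, c.2.2.2)) := by
      intro l hl t u
      induction l with
      | nil => simp [ChevalleyDatum.stWord, wordL_nil]
      | cons c l ih =>
        rw [List.map_cons, List.map_cons, wordL_cons, show ∀ (x : ℕ × K) (w : List (ℕ × K)),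
          D.stWord (x :: w) = D.stX x.1 x.2 * D.stWord w from fun x w => by
            simp [ChevalleyDatum.stWord], map_mul, Units.val_mul,
          ih fun d hd => hl d (List.mem_cons_of_mem _ hd)]
        congr 1
        simp only [ChevalleyDatum.stX, dif_pos (hl c List.mem_cons_self), FreeGroup.lift_apply_of,
          nU_val]
        congr 1
        rw [neg_pow]
        push_cast
        ring
    rintro w (⟨r, t, u, hr, rfl⟩ | ⟨r, s, t, u, hr, hs, h1, h2, rfl⟩)
    · simp only [ChevalleyDatum.stX, dif_pos hr, map_mul, map_inv, FreeGroup.lift_apply_of,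
        mul_inv_eq_one]
      exact Units.ext (nxL_add h ⟨r, hr⟩ t u).symm
    · obtain ⟨hT, he⟩ := (of_decide_eq_true h).2 ⟨r, hr⟩ ⟨s, hs⟩ h1 h2
      have h3 := word_eq he t u
      simp only [map_mul, map_inv, mul_inv_eq_one]
      simp only [ChevalleyDatum.stX, dif_pos hs, dif_pos hr, FreeGroup.lift_apply_of]
      rw [← _root_.mul_inv_rev, mul_assoc, inv_mul_eq_iff_eq_mul]
      apply Units.ext
      rw [Units.val_mul, Units.val_mul, Units.val_mul, ChevalleyDatum.commWord, hw _ hT, nU_val,
        nU_val]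
      simp only [wordL_cons, wordL_nil, mul_one, Int.cast_one, one_mul, pow_one, pow_zero] at h3
      rw [h3, mul_assoc])

theorem natHom_of (r : Fin D.nroots) (t : K) :
    ((natHom h (PresentedGroup.of (r, t) : D.SteinbergCover K) : Matrix.GeneralLinearGroup ι K) :
      Matrix ι ι K) = nxL (T r.val) t := by
  rw [natHom, PresentedGroup.toGroup.of]
  rfl

end Hom

end CfsgLib.Lie.NatRep
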