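import Cfsg.Agent.Lib.Lie.Chev.Nat.Cert
import Cfsg.Prelude.Def_Classical

/-!
# Elementary orthogonal groups: `[O, O] = E`

For a form `∑ xᵢ yᵢ` or `z² + ∑ xᵢ yᵢ`, with at least two hyperbolic pairs, over any field, row
reduction shows that the isometry group is generated by the elementary root elements together with
three kinds of monomial elements, which commute modulo the elementary group.
-/

set_option autoImplicit false
set_option maxHeartbeats 1000000

namespace CfsgLib.Lie.NatRep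

open scoped Matrix

/-- hyperbolic coordinates, possibly with one further coordinate -/
structure Hyp (ι : Type) (m : ℕ) where
  /-- the coordinates of the pairs -/
  c : Fin m × Bool → ι
  /-- the further coordinate -/
  z : Option ι
  inj : Function.Injective c
  notc : ∀ p k, z = some k → c p ≠ k
  cover : ∀ k, (∃ p, c p = k) ∨ z = some k

/-- the partner in the pair -/
def bar {m : ℕ} (p : Fin m × Bool) : Fin m × Bool := (p.1, !p.2)

theorem bar_bar {m : ℕ} (p : Fin m × Bool) : bar (bar p) = p := by simp [bar]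

theorem bar_ne {m : ℕ} (p : Fin m × Bool) : bar p ≠ p := fun h => by
  have := congrArg Prod.snd h
  simp [bar] at this

namespace Hyp

variable {ι : Type} [Fintype ι] [DecidableEq ι] {m : ℕ} (H : Hyp ι m) {F : Type*} [Field F]

/-- the form -/
def Q (F : Type*) [Field F] (v : ι → F) : F :=
  (H.z.elim 0 fun k => v k ^ 2) + ∑ i : Fin m, v (H.c (i, true)) * v (H.c (i, false))

/-- a long root entry list -/
def entT (p q : Fin m × Bool) : Ents ι :=
  [(1, 1, H.c p, H.c q), (1, -1, H.c (bar q), H.c (bar p))]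

/-- a short root entry list -/
def entS (k : ι) (p : Fin m × Bool) : Ents ι :=
  [(1, 1, k, H.c p), (1, -2, H.c (bar p), k), (2, -1, H.c (bar p), H.c p)]

/-- the entry lists of the root elements -/
def IsRoot (L : Ents ι) : Prop :=
  (∃ p q, q ≠ p ∧ q ≠ bar p ∧ L = H.entT p q) ∨ ∃ k p, H.z = some k ∧ L = H.entS k p

/-- the elementary group -/
def E (F : Type*) [Field F] : Subgroup (Matrix.GeneralLinearGroup ι F) :=
  Subgroup.closure {g | ∃ L t, H.IsRoot L ∧ (g : Matrix ι ι F) = nxL L t}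

theorem c_ne {p q : Fin m × Bool} (h : p ≠ q) : H.c p ≠ H.c q := fun e => h (H.inj e)

theorem Q_add_single (v : ι → F) (p : Fin m × Bool) (s : F) :
    H.Q F (v + Pi.single (H.c p) s) = H.Q F v + s * v (H.c (bar p)) := by
  have hz : (H.z.elim 0 fun k => (v + Pi.single (H.c p) s : ι → F) k ^ 2) =
      H.z.elim 0 fun k => v k ^ 2 := by
    cases hk : H.z with
    | none => rfl
    | some k => simp [Ne.symm (H.notc p k hk)]
  unfold Q
  rw [hz, add_assoc]
  congr 1
  have : ∀ i : Fin m, (v + Pi.single (H.c p) s : ι → F) (H.c (i, true)) *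
      (v + Pi.single (H.c p) s : ι → F) (H.c (i, false)) =
      v (H.c (i, true)) * v (H.c (i, false)) + if i = p.1 then s * v (H.c (bar p)) else 0 := by
    intro i
    obtain ⟨j, b⟩ := p
    by_cases hi : i = j
    · subst hi
      cases b <;>
        simp [bar, H.c_ne (show (i, true) ≠ (i, false) by simp),
          H.c_ne (show (i, false) ≠ (i, true) by simp)] <;> ring
    · simp [hi, H.c_ne (show (i, true) ≠ (j, b) by simp [hi]),
        H.c_ne (show (i, false) ≠ (j, b) by simp [hi])]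
  rw [Finset.sum_congr rfl fun i _ => this i, Finset.sum_add_distrib, Finset.sum_ite_eq',
    if_pos (Finset.mem_univ _)]

theorem Q_add_single_z (v : ι → F) {k : ι} (hk : H.z = some k) (s : F) :
    H.Q F (v + Pi.single k s) = H.Q F v + 2 * s * v k + s ^ 2 := by
  have : ∀ p, (v + Pi.single k s : ι → F) (H.c p) = v (H.c p) := fun p => by
    simp [H.notc p k hk]
  unfold Q
  simp only [this, hk, Option.elim, Pi.add_apply, Pi.single_eq_same]
  ring

theorem Q_single (p : Fin m × Bool) : H.Q F (Pi.single (H.c p) (1 : F)) = 0 := by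
  have h := H.Q_add_single (0 : ι → F) p 1
  have h0 : H.Q F (0 : ι → F) = 0 := by
    unfold Q
    cases H.z <;> simp
  simpa [h0] using h

theorem T_mulVec (p q : Fin m × Bool) (t : F) (v : ι → F) :
    (nxL (H.entT p q) t).mulVec v = v + Pi.single (H.c p) (t * v (H.c q)) +
      Pi.single (H.c (bar q)) (-(t * v (H.c (bar p)))) := by
  rw [nxL_mulVec, add_assoc]
  congr 1
  simp [entT]

theorem S_mulVec (k : ι) (p : Fin m × Bool) (t : F) (v : ι → F) :
    (nxL (H.entS k p) t).mulVec v = v + Pi.single k (t * v (H.c p)) +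
      (Pi.single (H.c (bar p)) (-(2 * t * v k) - t ^ 2 * v (H.c p)) : ι → F) := by
  rw [nxL_mulVec, add_assoc]
  congr 1
  simp only [entS, List.map_cons, List.map_nil, List.sum_cons, List.sum_nil, add_zero, Int.cast_one,
    Int.cast_neg, Int.cast_ofNat, pow_one, one_mul]
  rw [← Pi.single_add]
  congr 2
  ring

theorem Q_root {L : Ents ι} (hL : H.IsRoot L) (t : F) (v : ι → F) :
    H.Q F ((nxL L t).mulVec v) = H.Q F v := by
  rcases hL with ⟨p, q, h1, h2, rfl⟩ | ⟨k, p, hk, rfl⟩
  · rw [H.T_mulVec, H.Q_add_single, H.Q_add_single, bar_bar, Pi.add_apply,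
      Pi.single_eq_of_ne (H.c_ne h1)]
    ring
  · rw [H.S_mulVec, H.Q_add_single, H.Q_add_single_z _ hk, bar_bar, Pi.add_apply,
      Pi.single_eq_of_ne (H.notc p k hk)]
    ring

theorem mem_iso {g : Matrix.GeneralLinearGroup ι F} :
    g ∈ Cfsg.isometryGroup F (H.Q F) ↔ ∀ v, H.Q F ((g : Matrix ι ι F).mulVec v) = H.Q F v :=
  ⟨fun h v => h v v, fun h u _ => h u⟩

theorem E_le : H.E F ≤ Cfsg.isometryGroup F (H.Q F) :=
  (Subgroup.closure_le _).2 fun g ⟨_, t, hL, hg⟩ => H.mem_iso.2 fun v => by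
    rw [hg]; exact H.Q_root hL t v

/-! ### row reduction -/

/-- fixing a unit vector -/
def Fix (g : Matrix.GeneralLinearGroup ι F) (p : Fin m × Bool) : Prop :=
  (g : Matrix ι ι F).mulVec (Pi.single (H.c p) 1) = Pi.single (H.c p) 1

theorem coord_of_fix {g : Matrix.GeneralLinearGroup ι F} (hg : g ∈ Cfsg.isometryGroup F (H.Q F))
    {p : Fin m × Bool} (hf : H.Fix g p) (v : ι → F) :
    (g : Matrix ι ι F).mulVec v (H.c (bar p)) = v (H.c (bar p)) := by
  have h := H.mem_iso.1 hg (v + Pi.single (H.c p) 1)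
  rw [Matrix.mulVec_add, hf, H.Q_add_single, H.Q_add_single, H.mem_iso.1 hg v, one_mul, one_mul,
    add_right_inj] at h
  exact h

theorem Fix.one (p : Fin m × Bool) : H.Fix (1 : Matrix.GeneralLinearGroup ι F) p := by
  unfold Fix
  rw [Units.val_one, Matrix.one_mulVec]

theorem Fix.mul {g h : Matrix.GeneralLinearGroup ι F} {p : Fin m × Bool} (hg : H.Fix g p)
    (hh : H.Fix h p) : H.Fix (g * h) p := by
  unfold Fix at *
  rw [Units.val_mul, ← Matrix.mulVec_mulVec, hh, hg]

/-- the moves of a step: elements of `E` fixing the inactive unit vectors -/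
def Mv (J : Finset (Fin m)) (v w : ι → F) : Prop :=
  ∃ e ∈ H.E F, (∀ p, p.1 ∉ J → H.Fix e p) ∧ (e : Matrix ι ι F).mulVec v = w

theorem Mv.trans {J : Finset (Fin m)} {u v w : ι → F} (h1 : H.Mv J u v) (h2 : H.Mv J v w) :
    H.Mv J u w := by
  obtain ⟨e, he, hef, hev⟩ := h1
  obtain ⟨f, hf, hff, hfv⟩ := h2
  exact ⟨f * e, Subgroup.mul_mem _ hf he, fun p hp => (hff p hp).mul H (hef p hp),
    by rw [Units.val_mul, ← Matrix.mulVec_mulVec, hev, hfv]⟩

theorem root_mem {L : Ents ι} (hL : H.IsRoot L) (t : F) (hu : IsUnit (nxL L t)) : hu.unit ∈ H.E F :=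
  Subgroup.subset_closure ⟨L, t, hL, hu.unit_spec⟩

variable (hU : ∀ L, H.IsRoot L → ∀ t : F, IsUnit (nxL L t))
include hU

theorem T_move {J : Finset (Fin m)} {p q : Fin m × Bool} (h1 : q ≠ p) (h2 : q ≠ bar p)
    (hp : p.1 ∈ J) (hq : q.1 ∈ J) (t : F) (v : ι → F) :
    H.Mv J v (v + Pi.single (H.c p) (t * v (H.c q)) +
      Pi.single (H.c (bar q)) (-(t * v (H.c (bar p))))) := by
  have hL : H.IsRoot (H.entT p q) := Or.inl ⟨p, q, h1, h2, rfl⟩
  refine ⟨_, H.root_mem hL t (hU _ hL t), fun r hr => ?_, ?_⟩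
  · unfold Fix
    rw [IsUnit.unit_spec, H.T_mulVec, Pi.single_eq_of_ne (H.c_ne fun e : q = r => hr (e ▸ hq)),
      Pi.single_eq_of_ne (H.c_ne fun e : bar p = r => hr (e ▸ hp))]
    simp
  · rw [IsUnit.unit_spec, H.T_mulVec]

theorem one_coord {J : Finset (Fin m)} {p : Fin m × Bool} (hp : p.1 ∈ J) {j : Fin m} (hj : j ∈ J)
    (hjp : j ≠ p.1) {v : ι → F} {q : Fin m × Bool} (hq : q.1 ∈ J) (hv : v (H.c q) ≠ 0) :
    ∃ w, H.Mv J v w ∧ w (H.c p) = 1 := by
  let j' : Fin m × Bool := (j, true)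
  have e1 : j' ≠ p := fun e => hjp (congrArg Prod.fst e)
  have e2 : j' ≠ bar p := fun e => hjp (congrArg Prod.fst e)
  have step : ∀ (u : ι → F) (r : Fin m × Bool), r.1 ∈ J → r ≠ p → r ≠ bar p → u (H.c r) ≠ 0 →
      ∃ w, H.Mv J u w ∧ w (H.c p) = 1 := by
    intro u r hr h1 h2 hu
    refine ⟨_, H.T_move hU h1 h2 hp hr ((1 - u (H.c p)) / u (H.c r)) u, ?_⟩
    rw [Pi.add_apply, Pi.add_apply, Pi.single_eq_same, Pi.single_eq_of_ne (H.c_ne (fun e => h2 (by
      rw [← bar_bar r, ← e])))]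
    field_simp
    ring
  by_cases hqp : q = p ∨ q = bar p
  · have f1 : q ≠ j' := fun e => by rcases hqp with h | h <;> exact hjp (by simp [← e, h, j', bar] at * )
    have f2 : q ≠ bar j' := fun e => by
      have := congrArg Prod.fst e
      rcases hqp with h | h <;> exact hjp (by rw [h] at this; exact this.symm)
    have hm := H.T_move hU f1 f2 (show j'.1 ∈ J from hj) hq ((1 - v (H.c j')) / v (H.c q)) v
    have hne : (v + Pi.single (H.c j') ((1 - v (H.c j')) / v (H.c q) * v (H.c q)) +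
        Pi.single (H.c (bar q)) (-((1 - v (H.c j')) / v (H.c q) * v (H.c (bar j')))) : ι → F) (H.c j')
        ≠ 0 := by
      rw [Pi.add_apply, Pi.add_apply, Pi.single_eq_same, Pi.single_eq_of_ne (H.c_ne (fun e => f2 (by
        rw [← bar_bar q, ← e]))), div_mul_cancel₀ _ hv]
      simp
    obtain ⟨w, hw, hw1⟩ := step _ j' hj e1 e2 hne
    exact ⟨w, hm.trans H hw, hw1⟩
  · push Not at hqp
    exact step v q hq hqp.1 hqp.2 hv

/-- clearing a vector with coordinate one at `p`, fixing the partner vector -/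
theorem clear {J : Finset (Fin m)} {p : Fin m × Bool} (hp : p.1 ∈ J) {v : ι → F}
    (hv : v (H.c p) = 1) (hQ : H.Q F v = 0) (h0 : ∀ q : Fin m × Bool, q.1 ∉ J → v (H.c q) = 0) :
    ∃ e ∈ H.E F, (∀ q, q.1 ∉ J → H.Fix e q) ∧ H.Fix e (bar p) ∧
      (e : Matrix ι ι F).mulVec v = Pi.single (H.c p) 1 := by
  classical
  have key : ∀ S : Finset (Fin m × Bool), (∀ q ∈ S, q.1 ∈ J ∧ q.1 ≠ p.1) →
      ∃ e ∈ H.E F, (∀ q, q.1 ∉ J → H.Fix e q) ∧ H.Fix e (bar p) ∧
        ∀ k, k ≠ H.c (bar p) → (e : Matrix ι ι F).mulVec v k = if k ∈ S.image H.c then 0 else v k := by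
    intro S
    induction S using Finset.induction with
    | empty => exact fun _ => ⟨1, one_mem _, fun q _ => Fix.one H q, Fix.one H (bar p), fun k _ => by simp⟩
    | @insert q S hqS ih =>
      intro hS
      obtain ⟨hq, hqp⟩ := hS q (Finset.mem_insert_self ..)
      obtain ⟨e, he, hef, hep, hev⟩ := ih fun r hr => hS r (Finset.mem_insert_of_mem hr)
      have h1 : p ≠ q := fun e => hqp (by rw [e])
      have h2 : p ≠ bar q := fun e => hqp (by rw [e]; rfl)
      have hL : H.IsRoot (H.entT q p) := Or.inl ⟨q, p, h1, h2, rfl⟩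
      let x := (hU _ hL (-(v (H.c q)))).unit
      refine ⟨x * e, Subgroup.mul_mem _ (H.root_mem hL _ _) he, fun r hr => Fix.mul H ?_ (hef r hr),
        Fix.mul H ?_ hep, fun k hk => ?_⟩
      · unfold Fix
        rw [IsUnit.unit_spec, H.T_mulVec, Pi.single_eq_of_ne (H.c_ne fun e : p = r => hr (e ▸ hp)),
          Pi.single_eq_of_ne (H.c_ne fun e : bar q = r => hr (e ▸ hq))]
        simp
      · unfold Fix
        rw [IsUnit.unit_spec, H.T_mulVec, Pi.single_eq_of_ne (H.c_ne (Ne.symm (bar_ne p))),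
          Pi.single_eq_of_ne (H.c_ne fun e : bar q = bar p => hqp (by simpa [bar] using congrArg Prod.fst e))]
        simp
      · rw [Units.val_mul, ← Matrix.mulVec_mulVec, IsUnit.unit_spec, H.T_mulVec, Pi.add_apply,
          Pi.add_apply, Pi.single_eq_of_ne hk, add_zero, hev k hk,
          hev (H.c p) (H.c_ne (Ne.symm (bar_ne p))), Finset.image_insert]
        have hpS : H.c p ∉ S.image H.c := fun h => by
          obtain ⟨r, hr, e⟩ := Finset.mem_image.1 h
          exact (hS r (Finset.mem_insert_of_mem hr)).2 (by rw [H.inj e])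
        rw [if_neg hpS, hv, mul_one]
        by_cases hkq : k = H.c q
        · subst hkq
          rw [Pi.single_eq_same, if_neg (fun h => by
            obtain ⟨r, hr, e⟩ := Finset.mem_image.1 h
            exact hqS (H.inj e ▸ hr)), if_pos (Finset.mem_insert_self ..), add_neg_cancel]
        · rw [Pi.single_eq_of_ne hkq, add_zero]
          simp [hkq]
  obtain ⟨e, he, hef, hep, hev⟩ :=
    key (Finset.univ.filter fun q => q.1 ∈ J ∧ q.1 ≠ p.1) fun q hq => (Finset.mem_filter.1 hq).2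
  have hval : ∀ q : Fin m × Bool, q ≠ bar p →
      (e : Matrix ι ι F).mulVec v (H.c q) = if q = p then 1 else 0 := by
    intro q hq
    rw [hev _ (H.c_ne hq)]
    by_cases h : q = p
    · subst h
      rw [if_pos rfl, if_neg, hv]
      simp [Finset.mem_image, H.inj.eq_iff]
    · rw [if_neg h]
      by_cases hJ : q.1 ∈ J
      · have : q.1 ≠ p.1 := fun e => by
          obtain ⟨i, b⟩ := q
          obtain ⟨j, b'⟩ := p
          simp only at e
          subst e
          cases b <;> cases b' <;> simp [bar] at h hq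
        rw [if_pos (Finset.mem_image_of_mem _ (by simp [hJ, this]))]
      · rw [h0 q hJ, ite_self]
  -- the further coordinate
  obtain ⟨f, hf, hff, hfp, hfv⟩ : ∃ f ∈ H.E F, (∀ q, q.1 ∉ J → H.Fix f q) ∧ H.Fix f (bar p) ∧
      (∀ k, k ≠ H.c (bar p) → (f : Matrix ι ι F).mulVec ((e : Matrix ι ι F).mulVec v) k =
        if k = H.c p then 1 else 0) := by
    cases hz : H.z with
    | none =>
      refine ⟨1, one_mem _, fun q _ => Fix.one H q, Fix.one H (bar p), fun k hk => ?_⟩
      rw [Units.val_one, Matrix.one_mulVec]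
      rcases H.cover k with ⟨q, rfl⟩ | h
      · rw [hval q (fun e => hk (by rw [e]))]
        simp [H.inj.eq_iff]
      · simp [hz] at h
    | some z =>
      have hL : H.IsRoot (H.entS z p) := Or.inr ⟨z, p, hz, rfl⟩
      let s : F := -((e : Matrix ι ι F).mulVec v z)
      refine ⟨(hU _ hL s).unit, H.root_mem hL _ _, fun r hr => ?_, ?_, fun k hk => ?_⟩
      · unfold Fix
        rw [IsUnit.unit_spec, H.S_mulVec, Pi.single_eq_of_ne (Ne.symm (H.notc r z hz)),
          Pi.single_eq_of_ne (H.c_ne fun e : p = r => hr (e ▸ hp))]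
        simp
      · unfold Fix
        rw [IsUnit.unit_spec, H.S_mulVec, Pi.single_eq_of_ne (Ne.symm (H.notc (bar p) z hz)),
          Pi.single_eq_of_ne (H.c_ne (Ne.symm (bar_ne p)))]
        simp
      · rw [IsUnit.unit_spec, H.S_mulVec, Pi.add_apply, Pi.add_apply, Pi.single_eq_of_ne hk, add_zero,
          hval p (Ne.symm (bar_ne p)), if_pos rfl, mul_one]
        rcases H.cover k with ⟨q, rfl⟩ | h
        · rw [hval q (fun e => hk (by rw [e])), Pi.single_eq_of_ne (H.notc q z hz), add_zero]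
          simp [H.inj.eq_iff]
        · rw [hz, Option.some_inj] at h
          subst h
          rw [Pi.single_eq_same, if_neg (Ne.symm (H.notc p z hz))]
          exact add_neg_cancel _
  refine ⟨f * e, Subgroup.mul_mem _ hf he, fun q hq => (hff q hq).mul H (hef q hq), hfp.mul H hep, ?_⟩
  rw [Units.val_mul, ← Matrix.mulVec_mulVec]
  set w := (f : Matrix ι ι F).mulVec ((e : Matrix ι ι F).mulVec v) with hw
  have hQw : H.Q F w = 0 := by
    rw [hw, H.mem_iso.1 (H.E_le hf), H.mem_iso.1 (H.E_le he), hQ]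
  have hwe : w = Pi.single (H.c p) 1 + Pi.single (H.c (bar p)) (w (H.c (bar p))) := by
    funext k
    by_cases hk : k = H.c (bar p)
    · subst hk
      simp [H.c_ne (bar_ne p)]
    · rw [Pi.add_apply, Pi.single_eq_of_ne hk, add_zero, Pi.single_apply, hfv k hk]
  rw [hwe, H.Q_add_single, H.Q_single, bar_bar, Pi.single_eq_same, mul_one, zero_add] at hQw
  rw [hwe, hQw, Pi.single_zero, add_zero]

/-- a step of the reduction -/
theorem stage {J : Finset (Fin m)} {i j : Fin m} (hi : i ∈ J) (hj : j ∈ J) (hij : j ≠ i)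
    {g : Matrix.GeneralLinearGroup ι F} (hg : g ∈ Cfsg.isometryGroup F (H.Q F))
    (hf : ∀ p : Fin m × Bool, p.1 ∉ J → H.Fix g p) :
    ∃ e ∈ H.E F, ∀ p : Fin m × Bool, p.1 ∉ J.erase i → H.Fix (e * g) p := by
  classical
  set p : Fin m × Bool := (i, true) with hp
  set v := (g : Matrix ι ι F).mulVec (Pi.single (H.c p) (1 : F)) with hv
  have hzero : ∀ (g : Matrix.GeneralLinearGroup ι F), g ∈ Cfsg.isometryGroup F (H.Q F) →
      (∀ r : Fin m × Bool, r.1 ∉ J → H.Fix g r) → ∀ r : Fin m × Bool, r.1 ∈ J →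
      ∀ q : Fin m × Bool, q.1 ∉ J →
        (g : Matrix ι ι F).mulVec (Pi.single (H.c r) (1 : F)) (H.c q) = 0 := by
    intro g hg hf r hr q hq
    rw [← bar_bar q, H.coord_of_fix hg (hf (bar q) hq), bar_bar,
      Pi.single_eq_of_ne (H.c_ne fun e : q = r => hq (by subst e; exact hr))]
  have hQv : H.Q F v = 0 := by rw [hv, H.mem_iso.1 hg, H.Q_single]
  obtain ⟨q, hq⟩ : ∃ q, v (H.c q) ≠ 0 := by
    by_contra hc
    push Not at hc
    have hv0 : v = 0 := by
      funext k
      rcases H.cover k with ⟨q, rfl⟩ | hz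
      · exact hc q
      · have : H.Q F v = v k ^ 2 := by
          unfold Q
          simp [hc, hz]
        rw [hQv] at this
        exact pow_eq_zero_iff two_ne_zero |>.1 this.symm
    have h1 := congrArg (((g⁻¹ : Matrix.GeneralLinearGroup ι F) : Matrix ι ι F).mulVec) hv0
    rw [hv, Matrix.mulVec_mulVec, Units.inv_mul, Matrix.one_mulVec, Matrix.mulVec_zero] at h1
    simpa using congrFun h1 (H.c p)
  have hqJ : q.1 ∈ J := by_contra fun h => hq (hzero g hg hf p hi q h)
  obtain ⟨w, ⟨e1, he1, hf1, rfl⟩, hw1⟩ := H.one_coord hU (p := p) hi hj hij hqJ hq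
  have hg1 : e1 * g ∈ Cfsg.isometryGroup F (H.Q F) := Subgroup.mul_mem _ (H.E_le he1) hg
  have hfix1 : ∀ r : Fin m × Bool, r.1 ∉ J → H.Fix (e1 * g) r := fun r hr =>
    (hf1 r hr).mul H (hf r hr)
  have hev : ((e1 * g : Matrix.GeneralLinearGroup ι F) : Matrix ι ι F).mulVec
      (Pi.single (H.c p) (1 : F)) = (e1 : Matrix ι ι F).mulVec v := by
    rw [Units.val_mul, ← Matrix.mulVec_mulVec]
  obtain ⟨e2, he2, hf2, -, hv2⟩ := H.clear hU (p := p) hi hw1
    (by rw [← hev, H.mem_iso.1 hg1, H.Q_single])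
    (fun r hr => by rw [← hev]; exact hzero _ hg1 hfix1 p hi r hr)
  let g2 := e2 * (e1 * g)
  have hg2 : g2 ∈ Cfsg.isometryGroup F (H.Q F) := Subgroup.mul_mem _ (H.E_le he2) hg1
  have hfix2 : ∀ r : Fin m × Bool, r.1 ∉ J → H.Fix g2 r := fun r hr => (hf2 r hr).mul H (hfix1 r hr)
  have hp2 : H.Fix g2 p := by
    unfold Fix
    rw [Units.val_mul, ← Matrix.mulVec_mulVec, hev, hv2]
  obtain ⟨e3, he3, hf3, hb3, hv3⟩ := H.clear hU (p := bar p) hi
    (v := (g2 : Matrix ι ι F).mulVec (Pi.single (H.c (bar p)) (1 : F)))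
    (by rw [H.coord_of_fix hg2 hp2]; simp)
    (by rw [H.mem_iso.1 hg2, H.Q_single]) (fun r hr => hzero g2 hg2 hfix2 (bar p) hi r hr)
  rw [bar_bar] at hb3
  refine ⟨e3 * e2 * e1, Subgroup.mul_mem _ (Subgroup.mul_mem _ he3 he2) he1, fun r hr => ?_⟩
  rw [show e3 * e2 * e1 * g = e3 * g2 by simp only [g2, mul_assoc]]
  by_cases hrJ : r.1 ∈ J
  · have hri : r.1 = i := by_contra fun h => hr (Finset.mem_erase.2 ⟨h, hrJ⟩)
    obtain ⟨r1, b⟩ := r
    simp only at hri
    subst hri
    cases b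
    · unfold Fix
      rw [Units.val_mul, ← Matrix.mulVec_mulVec]
      exact hv3
    · exact hb3.mul H hp2
  · exact (hf3 r hrJ).mul H (hfix2 r hrJ)

theorem reduce_to (l : Fin m) : ∀ (n : ℕ) (J : Finset (Fin m)), J.card = n → l ∈ J →
    ∀ g ∈ Cfsg.isometryGroup F (H.Q F), (∀ p : Fin m × Bool, p.1 ∉ J → H.Fix g p) →
    ∃ e ∈ H.E F, ∀ p : Fin m × Bool, p.1 ≠ l → H.Fix (e * g) p := by
  intro n
  induction n with
  | zero =>
    intro J hJ hl
    rw [Finset.card_eq_zero] at hJ
    subst hJ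
    simp at hl
  | succ n ih =>
    intro J hJ hl g hg hf
    by_cases h : ∃ i ∈ J, i ≠ l
    · obtain ⟨i, hi, hil⟩ := h
      obtain ⟨e, he, hef⟩ := H.stage hU hi hl (Ne.symm hil) hg hf
      obtain ⟨e', he', h'⟩ := ih (J.erase i) (by rw [Finset.card_erase_of_mem hi, hJ]; rfl)
        (Finset.mem_erase.2 ⟨Ne.symm hil, hl⟩) (e * g) (Subgroup.mul_mem _ (H.E_le he) hg) hef
      exact ⟨e' * e, Subgroup.mul_mem _ he' he, fun p hp => by rw [mul_assoc]; exact h' p hp⟩
    · push Not at h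
      exact ⟨1, one_mem _, fun p hp => by rw [one_mul]; exact hf p fun hm => hp (h _ hm)⟩

end Hyp

end CfsgLib.Lie.NatRep
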