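import Cfsg.Agent.Lib.Lie.Chev.Nat.Iso
import Cfsg.Agent.Lib.Lie.Chev.AutBase

/-!
# The natural isomorphism on root elements
-/

set_option autoImplicit false
set_option maxHeartbeats 1000000

namespace CfsgLib.Lie.NatRep

open Cfsg.Lie CfsgLib.Lie.Chev
open scoped Matrix commutatorElement

theorem quot_iso_spec {St S W : Type*} [Group St] [Group S] [Group W] (hperf : commutator St = ⊤)
    (θ : St →* S) (hθ : Function.Surjective θ) (hker : θ.ker ≤ Subgroup.center St)
    (hsim : IsSimpleGroup S) (hna : ¬ IsMulCommutative S) (ρ : St →* W) (hρ : Function.Surjective ρ)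
    (hW : ∃ w : W, w ≠ 1) : ∃ e : S ≃* W ⧸ Subgroup.center W, ∀ x, e (θ x) = QuotientGroup.mk (ρ x) := by
  have hnorm : (ρ.ker.map θ).Normal := Subgroup.Normal.map inferInstance θ hθ
  have hle : ρ.ker ≤ θ.ker := by
    rcases hsim.eq_bot_or_eq_top_of_normal _ hnorm with h | h
    · exact fun x hx => (MonoidHom.mem_ker).2 (Subgroup.mem_bot.1 (h ▸ Subgroup.mem_map_of_mem θ hx))
    exfalso
    obtain ⟨w, hw⟩ := hW
    have hcomm : ∀ x : St, ρ x ∈ Subgroup.center W := by
      intro x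
      obtain ⟨k, hk, e⟩ := (h.symm ▸ Subgroup.mem_top (θ x) : θ x ∈ ρ.ker.map θ)
      have hz : k⁻¹ * x ∈ Subgroup.center St := hker (by
        rw [MonoidHom.mem_ker, map_mul, map_inv, e, inv_mul_cancel])
      have e2 : ρ x = ρ (k⁻¹ * x) := by rw [map_mul, map_inv, MonoidHom.mem_ker.1 hk, inv_one, one_mul]
      rw [e2, Subgroup.mem_center_iff]
      intro g
      obtain ⟨y, rfl⟩ := hρ g
      rw [← map_mul, ← map_mul, Subgroup.mem_center_iff.1 hz y]
    have : commutator St ≤ ρ.ker := by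
      rw [commutator_def, Subgroup.commutator_le]
      intro a _ b _
      rw [MonoidHom.mem_ker, map_commutatorElement, commutatorElement_eq_one_iff_mul_comm]
      exact Subgroup.mem_center_iff.1 (hcomm b) (ρ a)
    rw [hperf] at this
    obtain ⟨y, rfl⟩ := hρ w
    exact hw (MonoidHom.mem_ker.1 (this (Subgroup.mem_top y)))
  let ψ : St →* W ⧸ Subgroup.center W := (QuotientGroup.mk' _).comp ρ
  have hψ : Function.Surjective ψ := (QuotientGroup.mk'_surjective _).comp hρ
  have hk : θ.ker = ψ.ker := by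
    ext x
    rw [MonoidHom.mem_ker (f := ψ), MonoidHom.comp_apply, QuotientGroup.mk'_apply,
      QuotientGroup.eq_one_iff]
    constructor
    · intro hx
      rw [Subgroup.mem_center_iff]
      intro g
      obtain ⟨y, rfl⟩ := hρ g
      rw [← map_mul, ← map_mul, Subgroup.mem_center_iff.1 (hker hx) y]
    · intro hx
      rw [MonoidHom.mem_ker]
      have hc : θ x ∈ Subgroup.center S := by
        rw [Subgroup.mem_center_iff]
        intro g
        obtain ⟨y, rfl⟩ := hθ g
        have : ⁅y, x⁆ ∈ ρ.ker := by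
          rw [MonoidHom.mem_ker, map_commutatorElement, commutatorElement_eq_one_iff_mul_comm]
          exact Subgroup.mem_center_iff.1 hx _
        have := MonoidHom.mem_ker.1 (hle this)
        rwa [map_commutatorElement, commutatorElement_eq_one_iff_mul_comm] at this
      rcases hsim.eq_bot_or_eq_top_of_normal (Subgroup.center S) inferInstance with h | h
      · exact Subgroup.mem_bot.1 (h ▸ hc)
      · exact absurd (⟨⟨fun a b => Subgroup.mem_center_iff.1 (h ▸ Subgroup.mem_top b) a⟩⟩ :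
          IsMulCommutative S) hna
  refine ⟨((QuotientGroup.quotientKerEquivOfSurjective θ hθ).symm.trans
    (QuotientGroup.quotientMulEquivOfEq hk)).trans (QuotientGroup.quotientKerEquivOfSurjective ψ hψ), fun x => ?_⟩
  have h1 : (QuotientGroup.quotientKerEquivOfSurjective θ hθ).symm (θ x) = QuotientGroup.mk x :=
    (MulEquiv.symm_apply_eq _).2 rfl
  simp only [MulEquiv.trans_apply, h1]
  rfl

section Main

variable {D : ChevalleyDatum} {ι : Type} [Fintype ι] [DecidableEq ι] {m : ℕ} {H : Hyp ι m} {T : ℕ → Ents ι}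

theorem main_iso_spec {K : Type*} [Field K] (C : Full D) (hchk : chkNat D T = true)
    (hmatch : Match (D := D) H T) (hP : ∀ i, C.HasPair i)
    (hperf : commutator (D.SteinbergCover K) = ⊤)
    (hsim : IsSimpleGroup ↥(D.group K) ∧ ¬ IsMulCommutative ↥(D.group K)) (hm : 2 ≤ m) :
    ∃ e : ↥(D.group K) ≃* Cfsg.POmega K (H.Q K), ∀ (r : Fin D.nroots) (t : K),
      ∃ w : ↥(Cfsg.Omega K (H.Q K)), ((w.1.1 : Matrix.GeneralLinearGroup ι K) : Matrix ι ι K) = nxL (T r.val) t ∧
        e (C.aX r t) = QuotientGroup.mk w := by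
  obtain ⟨hm1, hm2⟩ := hmatch
  have hroot : ∀ L, H.IsRoot L → ∀ t : K, ∃ r, ∃ t', nxL L t = nxL (T r) t' ∧ r < D.nroots := by
    intro L hL t
    obtain ⟨r, hr⟩ := hm1 L hL
    obtain ⟨t', ht⟩ := nxL_of_match hr t
    exact ⟨r.val, t', ht, r.isLt⟩
  have hU : ∀ L, H.IsRoot L → ∀ t : K, IsUnit (nxL L t) := by
    intro L hL t
    obtain ⟨r, t', ht, hr⟩ := hroot L hL t
    rw [ht, ← nU_val hchk ⟨r, hr⟩]
    exact Units.isUnit _
  let ρ0 := natHom (K := K) hchk
  have hrange : ρ0.range = H.E K := by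
    rw [MonoidHom.range_eq_map, ← PresentedGroup.closure_range_of, MonoidHom.map_closure]
    refine le_antisymm ((Subgroup.closure_le _).2 ?_) ((Subgroup.closure_le _).2 ?_)
    · rintro _ ⟨_, ⟨⟨r, t⟩, rfl⟩, rfl⟩
      obtain ⟨L, hL, hr⟩ := hm2 r
      obtain ⟨t', ht⟩ := nxL_of_match hr t
      exact Subgroup.subset_closure ⟨L, t', hL, (natHom_of hchk r t).trans ht⟩
    · rintro g ⟨L, t, hL, hg⟩
      obtain ⟨r, t', ht, hr⟩ := hroot L hL t
      refine Subgroup.subset_closure ⟨_, ⟨(⟨r, hr⟩, t'), rfl⟩, Units.ext ?_⟩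
      rw [natHom_of, hg, ht]
  have hE : (Cfsg.Omega K (H.Q K)).map (Cfsg.isometryGroup K (H.Q K)).subtype = H.E K := by
    refine le_antisymm (H.commutator_le hU hm) ?_
    have h1 : H.E K ≤ ⁅H.E K, H.E K⁆ := by
      conv_lhs => rw [← hrange, MonoidHom.range_eq_map, ← hperf, commutator_def, Subgroup.map_commutator,
        ← MonoidHom.range_eq_map, hrange]
    refine h1.trans ?_
    show ⁅H.E K, H.E K⁆ ≤ (commutator ↥(Cfsg.isometryGroup K (H.Q K))).map _
    rw [commutator_def, Subgroup.map_commutator, ← MonoidHom.range_eq_map, Subgroup.range_subtype]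
    exact Subgroup.commutator_mono H.E_le H.E_le
  have hmem : ∀ x, ρ0 x ∈ (Cfsg.Omega K (H.Q K)).map (Cfsg.isometryGroup K (H.Q K)).subtype := by
    intro x
    rw [hE, ← hrange]
    exact ⟨x, rfl⟩
  let e := (Cfsg.Omega K (H.Q K)).equivMapOfInjective _ (Cfsg.isometryGroup K (H.Q K)).subtype_injective
  let ρ : D.SteinbergCover K →* ↥(Cfsg.Omega K (H.Q K)) :=
    e.symm.toMonoidHom.comp (ρ0.codRestrict _ hmem)
  have hρ : Function.Surjective ρ := by
    refine e.symm.surjective.comp ?_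
    rintro ⟨g, hg⟩
    rw [hE, ← hrange] at hg
    obtain ⟨x, hx⟩ := hg
    exact ⟨x, Subtype.ext hx⟩
  let θ : D.SteinbergCover K →* ↥(D.group K) := (C.theta (K := K)).codRestrict (D.group K) fun x => by
    rw [← C.theta_range (K := K)]; exact ⟨x, rfl⟩
  have hθ : Function.Surjective θ := by
    rintro ⟨g, hg⟩
    rw [← C.theta_range (K := K)] at hg
    obtain ⟨x, hx⟩ := hg
    exact ⟨x, Subtype.ext hx⟩
  have hker : θ.ker ≤ Subgroup.center _ := fun x hx =>
    C.theta_ker_central hP (show x ∈ (C.theta (K := K)).ker from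
      MonoidHom.mem_ker.2 (congrArg Subtype.val (MonoidHom.mem_ker.1 hx)))
  have hne : ∃ w : ↥(Cfsg.Omega K (H.Q K)), w ≠ 1 := by
    -- a root element is not the identity
    obtain ⟨p, q, h1, h2⟩ : ∃ p q : Fin m × Bool, q ≠ p ∧ q ≠ bar p :=
      ⟨(⟨0, by omega⟩, true), (⟨1, by omega⟩, true), by simp, by simp [bar]⟩
    have hL : H.IsRoot (H.entT p q) := Or.inl ⟨p, q, h1, h2, rfl⟩
    have hmemE : (hU _ hL 1).unit ∈ H.E K := H.root_mem hL 1 _
    rw [← hE] at hmemE
    obtain ⟨w, hw, hwe⟩ := hmemE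
    refine ⟨⟨w, hw⟩, fun e0 => ?_⟩
    have e1 : (hU _ hL 1).unit = 1 := by
      rw [← hwe, show w = 1 from congrArg Subtype.val e0, map_one]
    have e2 := congrFun (congrArg (fun g : Matrix.GeneralLinearGroup ι K =>
      (g : Matrix ι ι K).mulVec (Pi.single (H.c q) 1)) e1) (H.c p)
    simp only [IsUnit.unit_spec, H.T_mulVec, Units.val_one, Matrix.one_mulVec, Pi.add_apply,
      Pi.single_eq_same, mul_one, Pi.single_eq_of_ne (H.c_ne (Ne.symm h1)),
      Pi.single_eq_of_ne (H.c_ne (show bar p ≠ q from fun e => h2 e.symm)), mul_zero, neg_zero,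
      Pi.single_zero, Pi.zero_apply, add_zero, zero_add] at e2
    exact one_ne_zero e2
  obtain ⟨e', he'⟩ := quot_iso_spec hperf θ hθ hker hsim.1 hsim.2 ρ hρ hne
  refine ⟨e', fun r t => ?_⟩
  obtain ⟨x, hx⟩ : ∃ x : D.SteinbergCover K, x = PresentedGroup.of (r, t) := ⟨_, rfl⟩
  have h1 : θ x = C.aX r t := Subtype.ext (by
    subst hx
    show C.theta _ = C.G.xu r t
    rw [← C.G.xc_eq_of]
    exact C.theta_xc r t)
  refine ⟨ρ x, ?_, by rw [← h1, he']⟩
  have h2 : ((ρ x).1 : Matrix.GeneralLinearGroup ι K) = ρ0 x := by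
    have h3 := congrArg Subtype.val (e.apply_symm_apply (ρ0.codRestrict _ hmem x))
    exact h3
  rw [h2, hx, natHom_of]

end Main

theorem d4_iso_spec (K : Type*) [Field K] (C : Full chevD4) :
    ∃ e : ↥(chevD4.group K) ≃* Cfsg.POmega K (Cfsg.quadFormPlus 4 K), ∀ (r : Fin chevD4.nroots) (t : K),
      ∃ w : ↥(Cfsg.Omega K (Cfsg.quadFormPlus 4 K)),
        ((w.1.1 : Matrix.GeneralLinearGroup (IP 4) K) : Matrix (IP 4) (IP 4) K) = nxL (tabD4 r.val) t ∧
        e (C.aX r t) = QuotientGroup.mk w := by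
  have hD : chevD4 ∈ [chevG2, chevB2, chevD4, chevF4, chevE6, chevE7, chevE8] := by simp
  have hQ : hypD4.Q K = Cfsg.quadFormPlus 4 K := by
    funext v
    simp [Hyp.Q, Cfsg.quadFormPlus, hypD4]
  rw [← hQ]
  have hperf : commutator (chevD4.SteinbergCover K) = ⊤ := by
    refine CoverPerfect.cover_perfect chevD4 hD fun h => ?_
    simp only [List.mem_cons, List.not_mem_nil, or_false] at h
    rcases h with h | h <;>
      exact absurd (congrArg ChevalleyDatum.nroots h) (by decide +kernel)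
  exact main_iso_spec (H := hypD4) C chk_D4 match_D4 (hasPair_tab hD C) hperf
    (C.isSimpleGroup connectedD4 (C.G.commutator_eq_top (inDerD4 C)) ⟨0, by decide +kernel⟩) (by norm_num)

end CfsgLib.Lie.NatRep
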