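import Cfsg.Agent.Lib.Lie.Chev.Nat.Elem

/-!
# The isometry group modulo its elementary subgroup is abelian
-/

set_option autoImplicit false
set_option maxHeartbeats 1000000

namespace CfsgLib.Lie.NatRep

open scoped Matrix commutatorElement

section Mono

variable {ι : Type} [Fintype ι] [DecidableEq ι] {F : Type*} [Field F]

/-- a monomial matrix -/
def monM (σ : Equiv.Perm ι) (d : ι → F) : Matrix ι ι F :=
  Matrix.of fun i j => if σ j = i then d j else 0

theorem monM_mulVec (σ : Equiv.Perm ι) (d : ι → F) (v : ι → F) (k : ι) :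
    (monM σ d).mulVec v (σ k) = d k * v k := by
  simp [monM, Matrix.mulVec, dotProduct]

theorem monM_ext {A : Matrix ι ι F} {σ : Equiv.Perm ι} {d : ι → F}
    (h : ∀ v k, A.mulVec v (σ k) = d k * v k) : A = monM σ d := by
  refine Matrix.ext_of_mulVec_single fun j => funext fun k => ?_
  obtain ⟨k, rfl⟩ := σ.surjective k
  rw [h, monM_mulVec]

theorem monM_mul (σ τ : Equiv.Perm ι) (d e : ι → F) :
    monM σ d * monM τ e = monM (σ * τ) fun k => d (τ k) * e k := by
  refine monM_ext fun v k => ?_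
  rw [← Matrix.mulVec_mulVec, Equiv.Perm.mul_apply, monM_mulVec, monM_mulVec, mul_assoc]

theorem monM_one {σ : Equiv.Perm ι} {d : ι → F} (hσ : σ = 1) (hd : ∀ k, d k = 1) : monM σ d = 1 := by
  refine (monM_ext fun v k => ?_).symm
  simp [hσ, hd]

theorem monM_single (σ : Equiv.Perm ι) (d : ι → F) (k : ι) (a : F) :
    (monM σ d).mulVec (Pi.single k a) = Pi.single (σ k) (d k * a) := by
  funext i
  obtain ⟨i, rfl⟩ := σ.surjective i
  rw [monM_mulVec]
  by_cases h : i = k
  · subst h; simp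
  · rw [Pi.single_eq_of_ne h, Pi.single_eq_of_ne (fun e => h (σ.injective e)), mul_zero]

/-- a monomial matrix as a unit -/
def monU (σ : Equiv.Perm ι) (d : ι → Fˣ) : Matrix.GeneralLinearGroup ι F :=
  ⟨monM σ fun k => (d k : F), monM σ⁻¹ fun k => ((d (σ⁻¹ k))⁻¹ : Fˣ),
    by rw [monM_mul]; exact monM_one (mul_inv_cancel σ) (fun k => by simp),
    by rw [monM_mul]; exact monM_one (inv_mul_cancel σ) (fun k => by simp)⟩

theorem monU_val (σ : Equiv.Perm ι) (d : ι → Fˣ) :
    ((monU σ d : Matrix.GeneralLinearGroup ι F) : Matrix ι ι F) = monM σ fun k => (d k : F) := rfl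

theorem monU_mul (σ τ : Equiv.Perm ι) (d e : ι → Fˣ) :
    monU σ d * monU τ e = monU (σ * τ) fun k => d (τ k) * e k :=
  Units.ext (by rw [Units.val_mul, monU_val, monU_val, monU_val, monM_mul]; rfl)

theorem monU_one : monU (1 : Equiv.Perm ι) (1 : ι → Fˣ) = 1 :=
  Units.ext (by rw [monU_val, Units.val_one]; exact monM_one rfl fun k => by simp)

end Mono

namespace Hyp

variable {ι : Type} [Fintype ι] [DecidableEq ι] {m : ℕ} (H : Hyp ι m) {F : Type*} [Field F]

/-- monomial isometries respecting the pairs -/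
structure IsMono (σ : Equiv.Perm ι) (d : ι → Fˣ) : Prop where
  hz : ∀ k, H.z = some k → σ k = k ∧ d k * d k = 1
  hp : ∀ p, ∃ p', σ (H.c p) = H.c p' ∧ σ (H.c (bar p)) = H.c (bar p')
  hd : ∀ p, d (H.c p) * d (H.c (bar p)) = 1

theorem conj_root {σ : Equiv.Perm ι} {d : ι → Fˣ} (hM : H.IsMono σ d) {L : Ents ι}
    (hL : H.IsRoot L) (t : F) : ∃ L' t', H.IsRoot L' ∧
      monM σ (fun k => (d k : F)) * nxL L t = nxL L' t' * monM σ fun k => (d k : F) := by
  rcases hL with ⟨p, q, h1, h2, rfl⟩ | ⟨k, p, hk, rfl⟩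
  · obtain ⟨p', hp1, hp2⟩ := hM.hp p
    obtain ⟨q', hq1, hq2⟩ := hM.hp q
    have n1 : q' ≠ p' := fun e => h1 (H.inj (σ.injective (by rw [hp1, hq1, e])))
    have n2 : q' ≠ bar p' := fun e => h2 (H.inj (σ.injective (by rw [hq1, hp2, e])))
    refine ⟨_, t * d (H.c p) * ((d (H.c q))⁻¹ : Fˣ), Or.inl ⟨p', q', n1, n2, rfl⟩,
      Matrix.ext_of_mulVec_single fun j => ?_⟩
    generalize (Pi.single j 1 : ι → F) = v
    rw [← Matrix.mulVec_mulVec, ← Matrix.mulVec_mulVec, H.T_mulVec, H.T_mulVec, Matrix.mulVec_add,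
      Matrix.mulVec_add, monM_single, monM_single, hp1, hq2]
    have e1 : (monM σ fun k => (d k : F)).mulVec v (H.c q') = d (H.c q) * v (H.c q) := by
      rw [← hq1, monM_mulVec]
    have e2 : (monM σ fun k => (d k : F)).mulVec v (H.c (bar p')) =
        d (H.c (bar p)) * v (H.c (bar p)) := by rw [← hp2, monM_mulVec]
    have dp : (d (H.c p) : F) * d (H.c (bar p)) = 1 := by rw [← Units.val_mul, hM.hd]; rfl
    have dq : (d (H.c (bar q)) : F) = ((d (H.c q))⁻¹ : Fˣ) := by
      rw [eq_inv_of_mul_eq_one_right (hM.hd q)]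
    congr 1
    · congr 1
      congr 1
      rw [e1]
      linear_combination (-(t * (d (H.c p) : F) * v (H.c q))) * (Units.inv_mul (d (H.c q)))
    · congr 1
      rw [e2, dq]
      linear_combination (t * ((d (H.c q))⁻¹ : Fˣ) * v (H.c (bar p))) * dp
  · obtain ⟨p', hp1, hp2⟩ := hM.hp p
    obtain ⟨hk1, hk2⟩ := hM.hz k hk
    refine ⟨_, t * d k * ((d (H.c p))⁻¹ : Fˣ), Or.inr ⟨k, p', hk, rfl⟩,
      Matrix.ext_of_mulVec_single fun j => ?_⟩
    generalize (Pi.single j 1 : ι → F) = v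
    rw [← Matrix.mulVec_mulVec, ← Matrix.mulVec_mulVec, H.S_mulVec, H.S_mulVec, Matrix.mulVec_add,
      Matrix.mulVec_add, monM_single, monM_single, hk1, hp2]
    have e1 : (monM σ fun k => (d k : F)).mulVec v k = d k * v k := by
      conv_lhs => rw [← hk1]
      rw [monM_mulVec]
    have e2 : (monM σ fun k => (d k : F)).mulVec v (H.c p') = d (H.c p) * v (H.c p) := by
      rw [← hp1, monM_mulVec]
    have dp : (d (H.c (bar p)) : F) = ((d (H.c p))⁻¹ : Fˣ) := by
      rw [eq_inv_of_mul_eq_one_right (hM.hd p)]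
    have dk : (d k : F) * d k = 1 := by rw [← Units.val_mul, hk2]; rfl
    congr 1
    · congr 1
      congr 1
      rw [e2]
      linear_combination (-(t * (d k : F) * v (H.c p))) * (Units.inv_mul (d (H.c p)))
    · congr 1
      rw [e1, e2, dp]
      linear_combination (2 * t * v k * ((d (H.c p))⁻¹ : Fˣ) +
          t ^ 2 * v (H.c p) * ((d (H.c p))⁻¹ : Fˣ) * (((d (H.c p))⁻¹ : Fˣ) * (d (H.c p) : F))) * dk +
        (t ^ 2 * v (H.c p) * ((d (H.c p))⁻¹ : Fˣ)) * (Units.inv_mul (d (H.c p)))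

variable (hU : ∀ L, H.IsRoot L → ∀ t : F, IsUnit (nxL L t))
include hU

theorem conj_mem {σ : Equiv.Perm ι} {d : ι → Fˣ} (hM : H.IsMono σ d)
    {g : Matrix.GeneralLinearGroup ι F} (hg : g ∈ H.E F) : monU σ d * g * (monU σ d)⁻¹ ∈ H.E F := by
  induction hg using Subgroup.closure_induction with
  | mem g hg =>
    obtain ⟨L, t, hL, hgv⟩ := hg
    obtain ⟨L', t', hL', he⟩ := H.conj_root hM hL t
    have : monU σ d * g * (monU σ d)⁻¹ = (hU L' hL' t').unit := by
      rw [mul_inv_eq_iff_eq_mul]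
      exact Units.ext (by rw [Units.val_mul, Units.val_mul, IsUnit.unit_spec, hgv, monU_val, he])
    rw [this]
    exact H.root_mem hL' t' _
  | one => simp
  | mul a b _ _ ha hb =>
    have : monU σ d * (a * b) * (monU σ d)⁻¹ =
        (monU σ d * a * (monU σ d)⁻¹) * (monU σ d * b * (monU σ d)⁻¹) := by group
    rw [this]
    exact Subgroup.mul_mem _ ha hb
  | inv a _ ha =>
    have : monU σ d * a⁻¹ * (monU σ d)⁻¹ = (monU σ d * a * (monU σ d)⁻¹)⁻¹ := by group
    rw [this]
    exact Subgroup.inv_mem _ ha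

omit hU

/-- scaling one pair -/
def tauD (l : Fin m) (c : Fˣ) (k : ι) : Fˣ :=
  if k = H.c (l, true) then c else if k = H.c (l, false) then c⁻¹ else 1

/-- scaling one pair, as a unit -/
def tau (l : Fin m) (c : Fˣ) : Matrix.GeneralLinearGroup ι F := monU 1 (H.tauD l c)

/-- exchanging one pair -/
def swp (F : Type*) [Field F] (l : Fin m) : Matrix.GeneralLinearGroup ι F :=
  monU (Equiv.swap (H.c (l, true)) (H.c (l, false))) (1 : ι → Fˣ)

/-- negating the further coordinate -/
def eps (F : Type*) [Field F] : Matrix.GeneralLinearGroup ι F :=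
  monU 1 fun k => if H.z = some k then -1 else 1

theorem tauD_z (l : Fin m) (c : Fˣ) {k : ι} (hk : H.z = some k) : H.tauD l c k = 1 := by
  simp [tauD, Ne.symm (H.notc _ k hk)]

theorem tauD_c (l : Fin m) (c : Fˣ) (p : Fin m × Bool) :
    H.tauD l c (H.c p) = if p.1 = l then cond p.2 c c⁻¹ else 1 := by
  obtain ⟨i, b⟩ := p
  by_cases h : i = l
  · subst h
    cases b <;> simp [tauD, H.c_ne (show (i, false) ≠ (i, true) by simp)]
  · simp [tauD, h, H.c_ne (show (i, b) ≠ (l, true) by simp [h]),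
      H.c_ne (show (i, b) ≠ (l, false) by simp [h])]

theorem tau_mono (l : Fin m) (c : Fˣ) : H.IsMono 1 (H.tauD l c) := by
  refine ⟨fun k hk => ⟨rfl, by rw [H.tauD_z l c hk, one_mul]⟩, fun p => ⟨p, rfl, rfl⟩, fun p => ?_⟩
  rw [H.tauD_c, H.tauD_c]
  obtain ⟨i, b⟩ := p
  by_cases h : i = l <;> cases b <;> simp [bar, h]

theorem swp_apply (l : Fin m) (p : Fin m × Bool) :
    Equiv.swap (H.c (l, true)) (H.c (l, false)) (H.c p) = H.c (if p.1 = l then bar p else p) := by
  obtain ⟨i, b⟩ := p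
  by_cases h : i = l
  · subst h
    cases b <;> simp [bar]
  · rw [if_neg h, Equiv.swap_apply_of_ne_of_ne (H.c_ne (by simp [h])) (H.c_ne (by simp [h]))]

theorem swp_z (l : Fin m) {k : ι} (hk : H.z = some k) :
    Equiv.swap (H.c (l, true)) (H.c (l, false)) k = k :=
  Equiv.swap_apply_of_ne_of_ne (Ne.symm (H.notc _ k hk)) (Ne.symm (H.notc _ k hk))

theorem swp_mono (l : Fin m) :
    H.IsMono (Equiv.swap (H.c (l, true)) (H.c (l, false))) (1 : ι → Fˣ) :=
  ⟨fun k hk => ⟨H.swp_z l hk, one_mul _⟩,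
    fun p => ⟨_, H.swp_apply l p, by
      rw [H.swp_apply, show (bar p).1 = p.1 from rfl]
      split_ifs <;> rfl⟩,
    fun p => one_mul _⟩

theorem eps_mono : H.IsMono (F := F) 1 (fun k => if H.z = some k then -1 else 1) := by
  have h : ∀ p, ¬ H.z = some (H.c p) := fun p e => H.notc p _ e rfl
  exact ⟨fun k hk => ⟨rfl, by simp [hk]⟩, fun p => ⟨p, rfl, rfl⟩, fun p => by simp [h]⟩

theorem mono_iso {σ : Equiv.Perm ι} {d : ι → Fˣ} (hM : H.IsMono σ d)
    (hσ : ∀ i : Fin m, ∀ b, ∃ b', σ (H.c (i, b)) = H.c (i, b')) :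
    monU σ d ∈ Cfsg.isometryGroup F (H.Q F) := by
  refine H.mem_iso.2 fun v => ?_
  rw [monU_val]
  unfold Q
  congr 1
  · cases hz : H.z with
    | none => rfl
    | some k =>
      obtain ⟨h1, h2⟩ := hM.hz k hz
      simp only [Option.elim]
      conv_lhs => rw [← h1]
      rw [monM_mulVec, mul_pow, sq (d k : F), ← Units.val_mul, h2, Units.val_one, one_mul]
  refine Finset.sum_congr rfl fun i _ => ?_
  obtain ⟨p', hp1, hp2⟩ := hM.hp (i, true)
  obtain ⟨b, hb⟩ := hσ i true
  have : p' = (i, b) := H.inj (hp1.symm.trans hb)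
  subst this
  have hd : (d (H.c (i, true)) : F) * d (H.c (i, false)) = 1 := by
    rw [← Units.val_mul]
    exact congrArg Units.val (hM.hd (i, true)) |>.trans Units.val_one
  have e1 := monM_mulVec σ (fun k => (d k : F)) v (H.c (i, true))
  have e2 := monM_mulVec σ (fun k => (d k : F)) v (H.c (i, false))
  rw [hp1] at e1
  rw [show σ (H.c (i, false)) = H.c (i, !b) from hp2] at e2
  cases b <;> simp only [Bool.not_true, Bool.not_false] at e2 <;> rw [e1, e2] <;>
    linear_combination (v (H.c (i, true)) * v (H.c (i, false))) * hd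

/-- the residual elements -/
def Res (F : Type*) [Field F] (l : Fin m) : Set (Matrix.GeneralLinearGroup ι F) :=
  {g | (∃ c : Fˣ, g = H.tau l c) ∨ g = H.swp F l ∨ g = H.eps F}

theorem res_mono {l : Fin m} {g : Matrix.GeneralLinearGroup ι F} (hg : g ∈ H.Res F l) :
    ∃ σ d, g = monU σ d ∧ H.IsMono σ d ∧ g ∈ Cfsg.isometryGroup F (H.Q F) := by
  rcases hg with ⟨c, rfl⟩ | rfl | rfl
  · exact ⟨_, _, rfl, H.tau_mono l c, H.mono_iso (H.tau_mono l c) fun i b => ⟨b, rfl⟩⟩
  · refine ⟨_, _, rfl, H.swp_mono l, H.mono_iso (H.swp_mono l) fun i b => ?_⟩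
    exact ⟨if i = l then !b else b, by rw [H.swp_apply]; split_ifs <;> rfl⟩
  · exact ⟨_, _, rfl, H.eps_mono, H.mono_iso H.eps_mono fun i b => ⟨b, rfl⟩⟩

theorem tau_mul (l : Fin m) (a b : Fˣ) : H.tau l a * H.tau l b = H.tau l (a * b) := by
  rw [tau, tau, tau, monU_mul, one_mul]
  congr 1
  funext k
  simp only [Equiv.Perm.one_apply, tauD]
  by_cases h1 : k = H.c (l, true)
  · simp [h1, mul_comm]
  by_cases h2 : k = H.c (l, false)
  · simp [h2, H.c_ne (show (l, false) ≠ (l, true) by simp), mul_comm]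
  · simp [h1, h2]

theorem tau_one (l : Fin m) : H.tau l (1 : Fˣ) = 1 := by
  rw [tau, ← monU_one]
  congr 1
  funext k
  simp [tauD]

theorem swp_sq (l : Fin m) : H.swp F l * H.swp F l = 1 := by
  rw [swp, monU_mul, Equiv.swap_mul_self, ← monU_one]
  congr 1
  funext k
  simp

theorem eps_sq : H.eps F * H.eps F = 1 := by
  rw [eps, monU_mul, one_mul, ← monU_one]
  congr 1
  funext k
  simp only [Equiv.Perm.one_apply, Pi.one_apply]
  by_cases h : H.z = some k <;> simp [h]

theorem swp_tau (l : Fin m) (c : Fˣ) : H.swp F l * H.tau l c = H.tau l c⁻¹ * H.swp F l := by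
  rw [swp, tau, tau, monU_mul, monU_mul, one_mul, mul_one]
  congr 1
  funext k
  simp only [Equiv.Perm.one_apply, Pi.one_apply, one_mul, mul_one]
  rcases H.cover k with ⟨p, rfl⟩ | hk
  · rw [H.swp_apply, H.tauD_c, H.tauD_c]
    obtain ⟨i, b⟩ := p
    by_cases h : i = l <;> cases b <;> simp [bar, h]
  · rw [H.swp_z l hk, H.tauD_z l _ hk, H.tauD_z l _ hk]

theorem eps_comm_tau (l : Fin m) (c : Fˣ) : H.eps F * H.tau l c = H.tau l c * H.eps F := by
  rw [eps, tau, monU_mul, monU_mul]
  congr 1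
  funext k
  by_cases h : H.z = some k <;> simp [h, mul_comm]

theorem eps_comm_swp (l : Fin m) : H.eps F * H.swp F l = H.swp F l * H.eps F := by
  rw [eps, swp, monU_mul, monU_mul, one_mul, mul_one]
  congr 1
  funext k
  simp only [Equiv.Perm.one_apply, Pi.one_apply, one_mul, mul_one]
  rcases H.cover k with ⟨p, rfl⟩ | hk
  · rw [H.swp_apply]
    simp [show ∀ p, ¬ H.z = some (H.c p) from fun p e => H.notc p _ e rfl]
  · rw [H.swp_z l hk]

include hU

theorem T_mem {p q : Fin m × Bool} (h1 : q ≠ p) (h2 : q ≠ bar p) (t : F) :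
    (hU _ (Or.inl ⟨p, q, h1, h2, rfl⟩) t).unit ∈ H.E F :=
  H.root_mem (Or.inl ⟨p, q, h1, h2, rfl⟩) t _

theorem torus_mem {p q : Fin m × Bool} (h1 : q ≠ p) (h2 : q ≠ bar p) (c : Fˣ) :
    ∃ g ∈ H.E F, ∀ (v : ι → F),
      (g : Matrix ι ι F).mulVec v (H.c p) = c * v (H.c p) ∧
      (g : Matrix ι ι F).mulVec v (H.c q) = (c⁻¹ : Fˣ) * v (H.c q) ∧
      (g : Matrix ι ι F).mulVec v (H.c (bar p)) = (c⁻¹ : Fˣ) * v (H.c (bar p)) ∧
      (g : Matrix ι ι F).mulVec v (H.c (bar q)) = c * v (H.c (bar q)) ∧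
      ∀ k, k ≠ H.c p → k ≠ H.c q → k ≠ H.c (bar p) → k ≠ H.c (bar q) →
        (g : Matrix ι ι F).mulVec v k = v k := by
  have h1' : p ≠ q := Ne.symm h1
  have h2' : p ≠ bar q := fun e => h2 (by rw [e, bar_bar])
  let n : Fˣ → Matrix.GeneralLinearGroup ι F := fun a =>
    (hU _ (Or.inl ⟨p, q, h1, h2, rfl⟩) (a : F)).unit *
      (hU _ (Or.inl ⟨q, p, h1', h2', rfl⟩) (-((a⁻¹ : Fˣ) : F))).unit *
      (hU _ (Or.inl ⟨p, q, h1, h2, rfl⟩) (a : F)).unit
  have hn : ∀ a, n a ∈ H.E F := fun a => Subgroup.mul_mem _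
    (Subgroup.mul_mem _ (H.T_mem hU h1 h2 _) (H.T_mem hU h1' h2' _)) (H.T_mem hU h1 h2 _)
  have g1 := H.c_ne h1'
  have g2 := H.c_ne h2'
  have g3 := H.c_ne (show bar p ≠ bar q from fun e => h1' (by rw [← bar_bar p, e, bar_bar]))
  have g4 := H.c_ne (show bar p ≠ q from fun e => h2 e.symm)
  have g5 := H.c_ne (bar_ne p)
  have g6 := H.c_ne (bar_ne q)
  have hnv : ∀ (a : Fˣ) (v : ι → F),
      (n a : Matrix ι ι F).mulVec v (H.c p) = a * v (H.c q) ∧
      (n a : Matrix ι ι F).mulVec v (H.c q) = -(((a⁻¹ : Fˣ) : F) * v (H.c p)) ∧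
      (n a : Matrix ι ι F).mulVec v (H.c (bar p)) = (a⁻¹ : Fˣ) * v (H.c (bar q)) ∧
      (n a : Matrix ι ι F).mulVec v (H.c (bar q)) = -(a * v (H.c (bar p))) ∧
      ∀ k, k ≠ H.c p → k ≠ H.c q → k ≠ H.c (bar p) → k ≠ H.c (bar q) →
        (n a : Matrix ι ι F).mulVec v k = v k := by
    intro a v
    have ha : (a : F) * ((a⁻¹ : Fˣ) : F) = 1 := a.mul_inv
    simp only [n, Units.val_mul, IsUnit.unit_spec, ← Matrix.mulVec_mulVec, H.T_mulVec, Pi.add_apply]
    refine ⟨?_, ?_, ?_, ?_, fun k k1 k2 k3 k4 => ?_⟩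
    · simp [g1, g2, g3, g4, g5, g6, g1.symm, g2.symm, g3.symm, g4.symm, g5.symm, g6.symm,
        -Units.val_inv_eq_inv_val]
      linear_combination (-(v (H.c p)) - (a : F) * v (H.c q)) * ha
    · simp [g1, g2, g3, g4, g5, g6, g1.symm, g2.symm, g3.symm, g4.symm, g5.symm, g6.symm,
        -Units.val_inv_eq_inv_val]
      linear_combination (-(v (H.c q))) * ha
    · simp [g1, g2, g3, g4, g5, g6, g1.symm, g2.symm, g3.symm, g4.symm, g5.symm, g6.symm,
        -Units.val_inv_eq_inv_val]
      linear_combination (-(v (H.c (bar p)))) * ha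
    · simp [g1, g2, g3, g4, g5, g6, g1.symm, g2.symm, g3.symm, g4.symm, g5.symm, g6.symm,
        -Units.val_inv_eq_inv_val]
      linear_combination (-(v (H.c (bar q))) + (a : F) * v (H.c (bar p))) * ha
    · simp [k1, k2, k3, k4]
  refine ⟨n c * n (-1), Subgroup.mul_mem _ (hn c) (hn (-1)), fun v => ?_⟩
  rw [Units.val_mul, ← Matrix.mulVec_mulVec]
  obtain ⟨a1, a2, a3, a4, a5⟩ := hnv c ((n (-1) : Matrix ι ι F).mulVec v)
  obtain ⟨b1, b2, b3, b4, b5⟩ := hnv (-1) v
  refine ⟨?_, ?_, ?_, ?_, fun k k1 k2 k3 k4 => ?_⟩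
  · rw [a1, b2]; simp
  · rw [a2, b1]; simp
  · rw [a3, b4]; simp
  · rw [a4, b3]; simp
  · rw [a5 k k1 k2 k3 k4, b5 k k1 k2 k3 k4]

theorem tau_sq_mem {l j : Fin m} (hjl : j ≠ l) (c : Fˣ) : H.tau l (c * c) ∈ H.E F := by
  have n1 : ((j, true) : Fin m × Bool) ≠ (l, true) := by simp [hjl]
  have n2 : ((j, true) : Fin m × Bool) ≠ bar (l, true) := by simp [hjl, bar]
  have n3 : ((j, false) : Fin m × Bool) ≠ (l, true) := by simp [hjl]
  have n4 : ((j, false) : Fin m × Bool) ≠ bar (l, true) := by simp [hjl, bar]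
  obtain ⟨g, hg, hgv⟩ := H.torus_mem hU n1 n2 c
  obtain ⟨f, hf, hfv⟩ := H.torus_mem hU n3 n4 c
  suffices h : H.tau l (c * c) = g * f by rw [h]; exact Subgroup.mul_mem _ hg hf
  refine (Units.ext ?_).symm
  rw [tau, monU_val]
  refine monM_ext fun v k => ?_
  rw [Units.val_mul, ← Matrix.mulVec_mulVec, Equiv.Perm.one_apply]
  obtain ⟨a1, a2, a3, a4, a5⟩ := hgv ((f : Matrix ι ι F).mulVec v)
  obtain ⟨b1, b2, b3, b4, b5⟩ := hfv v
  simp only [bar, Bool.not_true, Bool.not_false] at a1 a2 a3 a4 a5 b1 b2 b3 b4 b5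
  by_cases k1 : k = H.c (l, true)
  · subst k1; rw [a1, b1, H.tauD_c]; simp [mul_assoc]
  by_cases k2 : k = H.c (l, false)
  · subst k2; rw [a3, b3, H.tauD_c]; simp [mul_assoc]
  have hd : ((H.tauD l (c * c) k : Fˣ) : F) = 1 := by simp [tauD, k1, k2]
  rw [hd, one_mul]
  by_cases k3 : k = H.c (j, true)
  · subst k3; rw [a2, b4, ← mul_assoc, Units.inv_mul, one_mul]
  by_cases k4 : k = H.c (j, false)
  · subst k4; rw [a4, b2, ← mul_assoc, Units.mul_inv, one_mul]
  rw [a5 k k1 k3 k2 k4, b5 k k1 k4 k2 k3]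

/-- generation -/
theorem O_le {l j : Fin m} (hjl : j ≠ l) :
    Cfsg.isometryGroup F (H.Q F) ≤ Subgroup.closure ((H.E F : Set _) ∪ H.Res F l) := by
  classical
  intro g hg
  set K := Subgroup.closure ((H.E F : Set (Matrix.GeneralLinearGroup ι F)) ∪ H.Res F l) with hK
  have hE : ∀ {e}, e ∈ H.E F → e ∈ K := fun he => Subgroup.subset_closure (Or.inl he)
  have hR : ∀ {e}, e ∈ H.Res F l → e ∈ K := fun he => Subgroup.subset_closure (Or.inr he)
  have cancel : ∀ {x h : Matrix.GeneralLinearGroup ι F}, x ∈ K → x * h ∈ K → h ∈ K := by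
    intro x h hx hxh
    have := Subgroup.mul_mem K (Subgroup.inv_mem K hx) hxh
    rwa [inv_mul_cancel_left] at this
  obtain ⟨e, he, hfix⟩ := H.reduce_to hU l _ (Finset.univ : Finset (Fin m)) rfl (Finset.mem_univ l) g hg
    (fun p hp => absurd (Finset.mem_univ _) hp)
  refine cancel (hE he) ?_
  have hg' : e * g ∈ Cfsg.isometryGroup F (H.Q F) := Subgroup.mul_mem _ (H.E_le he) hg
  revert hfix hg'
  generalize e * g = h
  intro hfix hh
  clear hg he e g
  set p : Fin m × Bool := (l, true) with hp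
  have hzero : ∀ (h : Matrix.GeneralLinearGroup ι F), h ∈ Cfsg.isometryGroup F (H.Q F) →
      (∀ r : Fin m × Bool, r.1 ≠ l → H.Fix h r) → ∀ b, ∀ q : Fin m × Bool, q.1 ≠ l →
        (h : Matrix ι ι F).mulVec (Pi.single (H.c (l, b)) (1 : F)) (H.c q) = 0 := by
    intro h hh hf b q hq
    rw [← bar_bar q, H.coord_of_fix hh (hf (bar q) hq), bar_bar,
      Pi.single_eq_of_ne (H.c_ne fun e => hq (by rw [e]))]
  have hfixR : ∀ {x}, x ∈ H.Res F l → ∀ r : Fin m × Bool, r.1 ≠ l → H.Fix x r := by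
    intro x hx r hr
    unfold Fix
    rcases hx with ⟨c, rfl⟩ | rfl | rfl
    · rw [tau, monU_val, monM_single, H.tauD_c, if_neg hr]; simp
    · rw [swp, monU_val, monM_single, H.swp_apply, if_neg hr]; simp
    · rw [eps, monU_val, monM_single]
      simp [show ¬ H.z = some (H.c r) from fun e => H.notc r _ e rfl]
  -- case of non-zero first coordinate
  have main : ∀ (h : Matrix.GeneralLinearGroup ι F), h ∈ Cfsg.isometryGroup F (H.Q F) →
      (∀ r : Fin m × Bool, r.1 ≠ l → H.Fix h r) →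
      (h : Matrix ι ι F).mulVec (Pi.single (H.c p) (1 : F)) (H.c p) ≠ 0 → h ∈ K := by
    intro h hh hf hne
    let c : Fˣ := (Units.mk0 _ hne)⁻¹
    have hc : H.tau l c ∈ H.Res F l := Or.inl ⟨c, rfl⟩
    obtain ⟨σ, d, -, -, hci⟩ := H.res_mono hc
    refine cancel (hR hc) ?_
    have hi1 : H.tau l c * h ∈ Cfsg.isometryGroup F (H.Q F) := Subgroup.mul_mem _ hci hh
    have hf1 : ∀ r : Fin m × Bool, r.1 ≠ l → H.Fix (H.tau l c * h) r := fun r hr =>
      (hfixR hc r hr).mul H (hf r hr)
    have hv1 : ((H.tau l c * h : Matrix.GeneralLinearGroup ι F) : Matrix ι ι F).mulVec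
        (Pi.single (H.c p) (1 : F)) (H.c p) = 1 := by
      rw [Units.val_mul, ← Matrix.mulVec_mulVec]
      have e := monM_mulVec 1 (fun k => ((H.tauD l c k : Fˣ) : F))
        ((h : Matrix ι ι F).mulVec (Pi.single (H.c p) (1 : F))) (H.c p)
      rw [Equiv.Perm.one_apply] at e
      rw [tau, monU_val, e]
      simp only [p] at hne ⊢
      simp only [H.tauD_c, c, cond_true, if_pos, Units.val_inv_eq_inv_val, Units.val_mk0]
      exact inv_mul_cancel₀ hne
    revert hi1 hf1 hv1
    generalize H.tau l c * h = h1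
    intro hi1 hf1 hv1
    obtain ⟨e1, he1, hfe1, -, hev1⟩ := H.clear hU (J := {l}) (p := p) (Finset.mem_singleton_self l) hv1
      (by rw [H.mem_iso.1 hi1, H.Q_single])
      (fun r hr => hzero h1 hi1 hf1 true r (by simpa using hr))
    refine cancel (hE he1) ?_
    have hi2 : e1 * h1 ∈ Cfsg.isometryGroup F (H.Q F) := Subgroup.mul_mem _ (H.E_le he1) hi1
    have hf2 : ∀ r : Fin m × Bool, r.1 ≠ l → H.Fix (e1 * h1) r := fun r hr =>
      (hfe1 r (by simpa using hr)).mul H (hf1 r hr)
    have hp2 : H.Fix (e1 * h1) p := by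
      unfold Fix
      rw [Units.val_mul, ← Matrix.mulVec_mulVec, hev1]
    revert hi2 hf2 hp2
    generalize e1 * h1 = h2
    intro hi2 hf2 hp2
    obtain ⟨e2, he2, hfe2, hbe2, hev2⟩ := H.clear hU (J := {l}) (p := bar p) (Finset.mem_singleton_self l)
      (v := (h2 : Matrix ι ι F).mulVec (Pi.single (H.c (bar p)) (1 : F)))
      (by rw [H.coord_of_fix hi2 hp2]; simp)
      (by rw [H.mem_iso.1 hi2, H.Q_single])
      (fun r hr => hzero h2 hi2 hf2 false r (by simpa using hr))
    rw [bar_bar] at hbe2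
    refine cancel (hE he2) ?_
    have hi3 : e2 * h2 ∈ Cfsg.isometryGroup F (H.Q F) := Subgroup.mul_mem _ (H.E_le he2) hi2
    have hall : ∀ r : Fin m × Bool, H.Fix (e2 * h2) r := by
      intro r
      by_cases hr : r.1 = l
      · obtain ⟨r1, b⟩ := r
        simp only at hr
        subst hr
        cases b
        · unfold Fix
          rw [Units.val_mul, ← Matrix.mulVec_mulVec]
          exact hev2
        · exact hbe2.mul H hp2
      · exact (hfe2 r (by simpa using hr)).mul H (hf2 r hr)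
    revert hi3 hall
    generalize e2 * h2 = h3
    intro hi3 hall
    cases hz : H.z with
    | none =>
      have : h3 = 1 := Units.ext (Matrix.ext_of_mulVec_single fun k => by
        rcases H.cover k with ⟨q, rfl⟩ | h'
        · rw [hall q, Units.val_one, Matrix.one_mulVec]
        · simp [hz] at h')
      rw [this]
      exact one_mem _
    | some z =>
      set w := (h3 : Matrix ι ι F).mulVec (Pi.single z (1 : F)) with hw
      have hwc : ∀ q, w (H.c q) = 0 := fun q => by
        rw [← bar_bar q, hw, H.coord_of_fix hi3 (hall (bar q)), bar_bar,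
          Pi.single_eq_of_ne (H.notc q z hz)]
      have hwz : w z ^ 2 = 1 := by
        have h1 : H.Q F w = w z ^ 2 := by unfold Q; simp [hwc, hz]
        have h2 : H.Q F (Pi.single z (1 : F)) = 1 := by
          unfold Q; simp [hz, H.notc _ z hz]
        rw [← h1, hw, H.mem_iso.1 hi3, h2]
      have hwe : w = Pi.single z (w z) := by
        funext k
        rcases H.cover k with ⟨q, rfl⟩ | h'
        · rw [hwc, Pi.single_eq_of_ne (H.notc q z hz)]
        · rw [hz, Option.some_inj] at h'; subst h'; rw [Pi.single_eq_same]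
      have hh3 : h3 = monU 1 fun k => if H.z = some k then Units.mk0 (w z)
          (fun e => by simp [e] at hwz) else 1 := by
        refine Units.ext ?_
        rw [monU_val]
        refine Matrix.ext_of_mulVec_single fun k => ?_
        rw [monM_single]
        rcases H.cover k with ⟨q, rfl⟩ | h'
        · rw [hall q]
          simp [show ¬ H.z = some (H.c q) from fun e => H.notc q _ e rfl]
        · rw [hz, Option.some_inj] at h'
          subst h'
          rw [← hw]
          conv_lhs => rw [hwe]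
          simp [hz]
      rcases sq_eq_one_iff.1 hwz with h1 | h1
      · have : h3 = 1 := by
          rw [hh3, ← monU_one]
          congr 1
          funext k
          split_ifs
          · exact Units.ext (by simp [h1])
          · rfl
        rw [this]
        exact one_mem _
      · refine hR (Or.inr (Or.inr ?_))
        rw [hh3, eps]
        congr 1
        funext k
        split_ifs
        · exact Units.ext (by simp [h1])
        · rfl
  by_cases hne : (h : Matrix ι ι F).mulVec (Pi.single (H.c p) (1 : F)) (H.c p) ≠ 0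
  · exact main h hh hfix hne
  push Not at hne
  have hs : H.swp F l ∈ H.Res F l := Or.inr (Or.inl rfl)
  obtain ⟨σ, d, -, -, hsi⟩ := H.res_mono hs
  refine cancel (hR hs) (main _ (Subgroup.mul_mem _ hsi hh)
    (fun r hr => (hfixR hs r hr).mul H (hfix r hr)) ?_)
  intro h0
  have e := monM_mulVec (Equiv.swap (H.c (l, true)) (H.c (l, false)))
    (fun k => (((1 : ι → Fˣ) k : Fˣ) : F)) ((h : Matrix ι ι F).mulVec (Pi.single (H.c p) (1 : F)))
    (H.c (l, false))
  rw [Equiv.swap_apply_right] at e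
  rw [Units.val_mul, ← Matrix.mulVec_mulVec, swp, monU_val] at h0
  have h0 : (h : Matrix ι ι F).mulVec (Pi.single (H.c p) (1 : F)) (H.c (l, false)) = 0 := by
    have := e.symm.trans h0
    simpa using this
  set v := (h : Matrix ι ι F).mulVec (Pi.single (H.c p) (1 : F)) with hv
  have hvc : ∀ q, v (H.c q) = 0 := by
    intro q
    by_cases hq : q.1 = l
    · obtain ⟨q1, b⟩ := q
      simp only at hq
      subst hq
      cases b
      · exact h0
      · exact hne
    · exact hzero h hh hfix true q hq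
  have hv0 : v = 0 := by
    funext k
    rcases H.cover k with ⟨q, rfl⟩ | hz
    · exact hvc q
    · have h1 : H.Q F v = v k ^ 2 := by unfold Q; simp [hvc, hz]
      have h2 : H.Q F v = 0 := by rw [hv, H.mem_iso.1 hh, H.Q_single]
      exact pow_eq_zero_iff two_ne_zero |>.1 (h1.symm.trans h2)
  have h2 := congrArg (((h⁻¹ : Matrix.GeneralLinearGroup ι F) : Matrix ι ι F).mulVec) hv0
  rw [hv, Matrix.mulVec_mulVec, Units.inv_mul, Matrix.one_mulVec, Matrix.mulVec_zero] at h2
  simpa using congrFun h2 (H.c p)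

/-- the commutator subgroup of the isometry group lies in the elementary group -/
theorem commutator_le (hm : 2 ≤ m) :
    (commutator ↥(Cfsg.isometryGroup F (H.Q F))).map (Cfsg.isometryGroup F (H.Q F)).subtype ≤
      H.E F := by
  classical
  let l : Fin m := ⟨0, by omega⟩
  let j : Fin m := ⟨1, by omega⟩
  have hjl : j ≠ l := by simp [l, j]
  set O := Cfsg.isometryGroup F (H.Q F) with hO
  have hle := H.O_le hU hjl
  have hRn : ∀ x ∈ H.Res F l, ∀ g ∈ H.E F, x * g * x⁻¹ ∈ H.E F ∧ x⁻¹ * g * x ∈ H.E F := by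
    intro x hx g hg
    have hinv : ∀ y ∈ H.Res F l, y⁻¹ ∈ H.Res F l := by
      rintro y (⟨c, rfl⟩ | rfl | rfl)
      · exact Or.inl ⟨c⁻¹, inv_eq_of_mul_eq_one_right (by rw [H.tau_mul, mul_inv_cancel, H.tau_one])⟩
      · exact Or.inr (Or.inl (inv_eq_of_mul_eq_one_right (H.swp_sq l)))
      · exact Or.inr (Or.inr (inv_eq_of_mul_eq_one_right H.eps_sq))
    have hc : ∀ y ∈ H.Res F l, y * g * y⁻¹ ∈ H.E F := by
      intro y hy
      obtain ⟨σ, d, rfl, hM, -⟩ := H.res_mono hy
      exact H.conj_mem hU hM hg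
    exact ⟨hc x hx, by simpa using hc _ (hinv x hx)⟩
  have hnorm : ∀ x ∈ O, ∀ g ∈ H.E F, x * g * x⁻¹ ∈ H.E F := by
    intro x hx
    have : x ∈ Subgroup.closure ((H.E F : Set _) ∪ H.Res F l) := hle hx
    clear hx
    induction this using Subgroup.closure_induction'' with
    | mem y hy =>
      intro g hg
      rcases hy with hy | hy
      · exact Subgroup.mul_mem _ (Subgroup.mul_mem _ hy hg) (Subgroup.inv_mem _ hy)
      · exact (hRn y hy g hg).1
    | inv_mem y hy =>
      intro g hg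
      rcases hy with hy | hy
      · exact Subgroup.mul_mem _ (Subgroup.mul_mem _ (Subgroup.inv_mem _ hy) hg)
          (Subgroup.inv_mem _ (Subgroup.inv_mem _ hy))
      · simpa using (hRn y hy g hg).2
    | one => intro g hg; simpa using hg
    | mul a b _ _ ha hb =>
      intro g hg
      have := ha _ (hb g hg)
      simpa [mul_assoc] using this
  haveI hN : ((H.E F).subgroupOf O).Normal := ⟨fun g hg x => hnorm x.1 x.2 g.1 hg⟩
  let π := QuotientGroup.mk' ((H.E F).subgroupOf O)
  have hResO : ∀ x ∈ H.Res F l, x ∈ O := fun x hx => by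
    obtain ⟨σ, d, -, -, h⟩ := H.res_mono hx
    exact h
  -- residual elements commute modulo the elementary group
  have hcomm : ∀ x ∈ H.Res F l, ∀ y ∈ H.Res F l, x * y * (y * x)⁻¹ ∈ H.E F := by
    have key : ∀ c : Fˣ, H.swp F l * H.tau l c * (H.tau l c * H.swp F l)⁻¹ ∈ H.E F := by
      intro c
      have e : H.swp F l * H.tau l c * (H.tau l c * H.swp F l)⁻¹ = H.tau l (c⁻¹ * c⁻¹) := by
        rw [mul_inv_eq_iff_eq_mul, H.swp_tau, ← mul_assoc, H.tau_mul]
        congr 2
        rw [mul_assoc, inv_mul_cancel, mul_one]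
      rw [e]
      exact H.tau_sq_mem hU hjl _
    rintro x (⟨a, rfl⟩ | rfl | rfl) y (⟨b, rfl⟩ | rfl | rfl)
    · rw [H.tau_mul, H.tau_mul, mul_comm a b, mul_inv_cancel]; exact one_mem _
    · have := Subgroup.inv_mem _ (key a)
      rwa [_root_.mul_inv_rev, inv_inv] at this
    · rw [← H.eps_comm_tau, mul_inv_cancel]; exact one_mem _
    · exact key b
    · rw [mul_inv_cancel]; exact one_mem _
    · rw [← H.eps_comm_swp, mul_inv_cancel]; exact one_mem _
    · rw [H.eps_comm_tau, mul_inv_cancel]; exact one_mem _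
    · rw [H.eps_comm_swp, mul_inv_cancel]; exact one_mem _
    · rw [mul_inv_cancel]; exact one_mem _
  have hcomm' : ∀ (a b : ↥O), (a : Matrix.GeneralLinearGroup ι F) ∈ (H.E F : Set _) ∪ H.Res F l →
      (b : Matrix.GeneralLinearGroup ι F) ∈ (H.E F : Set _) ∪ H.Res F l → π a * π b = π b * π a := by
    intro a b ha hb
    have one : ∀ c : ↥O, (c : Matrix.GeneralLinearGroup ι F) ∈ H.E F → π c = 1 := fun c hc =>
      (QuotientGroup.eq_one_iff c).2 hc
    rcases ha with ha | ha
    · rw [one a ha, one_mul, mul_one]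
    rcases hb with hb | hb
    · rw [one b hb, one_mul, mul_one]
    have := one (a * b * (b * a)⁻¹) (hcomm _ ha _ hb)
    rwa [map_mul, map_inv, mul_inv_eq_one, map_mul, map_mul] at this
  have hgen : ∀ a : ↥O, ∀ b : ↥O, π a * π b = π b * π a := by
    let S : Set ↥O := {a | (a : Matrix.GeneralLinearGroup ι F) ∈ (H.E F : Set _) ∪ H.Res F l}
    have hS : Subgroup.closure S = ⊤ := by
      refine Subgroup.map_injective O.subtype_injective ?_
      rw [MonoidHom.map_closure, ← MonoidHom.range_eq_map, Subgroup.range_subtype]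
      refine le_antisymm ((Subgroup.closure_le _).2 fun x hx => ?_) (le_trans hle ?_)
      · obtain ⟨a, -, rfl⟩ := hx; exact a.2
      · refine Subgroup.closure_mono fun x hx => ⟨⟨x, ?_⟩, hx, rfl⟩
        rcases hx with hx | hx
        exacts [H.E_le hx, hResO x hx]
    have h1 : ∀ a ∈ S, ∀ b : ↥O, π a * π b = π b * π a := by
      intro a ha b
      have : b ∈ Subgroup.closure S := hS ▸ Subgroup.mem_top b
      induction this using Subgroup.closure_induction with
      | mem y hy => exact hcomm' a y ha hy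
      | one => simp
      | mul y z _ _ hy hz => rw [map_mul]; exact (Commute.mul_right hy hz)
      | inv y _ hy => rw [map_inv]; exact Commute.inv_right hy
    intro a b
    have : a ∈ Subgroup.closure S := hS ▸ Subgroup.mem_top a
    induction this using Subgroup.closure_induction with
    | mem y hy => exact h1 y hy b
    | one => simp
    | mul y z _ _ hy hz => rw [map_mul]; exact (Commute.mul_left hy hz)
    | inv y _ hy => rw [map_inv]; exact Commute.inv_left hy
  rintro x ⟨a, ha, rfl⟩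
  have : commutator ↥O ≤ (H.E F).subgroupOf O := by
    rw [commutator_def, Subgroup.commutator_le]
    intro a _ b _
    rw [← QuotientGroup.eq_one_iff]
    show π ⁅a, b⁆ = 1
    rw [map_commutatorElement, commutatorElement_eq_one_iff_mul_comm]
    exact hgen a b
  exact this ha

end Hyp

end CfsgLib.Lie.NatRep
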